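import Mathlib.LinearAlgebra.Matrix.NonsingularInverse
import Mathlib.LinearAlgebra.Matrix.SchurComplement
import Mathlib.RingTheory.LocalProperties.Basic
import Mathlib.RingTheory.LocalRing.Basic
import Mathlib.LinearAlgebra.QuadraticForm.Basis
import Mathlib.LinearAlgebra.Determinant
import Mathlib.LinearAlgebra.Matrix.BilinearForm
import Mathlib.Tactic

/-!
# Automorphisms of perfect alternating forms have determinant one
-/

open Matrix

universe u

namespace Groth.Agent.Lib.QuadGrp99.AltDet

variable {S : Type u} [CommRing S] {n : ℕ}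

/-- The bilinear form of a matrix. -/
def beta (B : Matrix (Fin n) (Fin n) S) (x y : Fin n → S) : S := x ⬝ᵥ (B *ᵥ y)

/-- Preservation of the bilinear form. -/
def Pres (B G : Matrix (Fin n) (Fin n) S) : Prop := ∀ x y, beta B (G *ᵥ x) (G *ᵥ y) = beta B x y

variable {B : Matrix (Fin n) (Fin n) S}

theorem beta_add_left (x x' y : Fin n → S) : beta B (x + x') y = beta B x y + beta B x' y := add_dotProduct _ _ _
theorem beta_add_right (x y y' : Fin n → S) : beta B x (y + y') = beta B x y + beta B x y' := by
  simp [beta, mulVec_add, dotProduct_add]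
theorem beta_smul_left (c : S) (x y : Fin n → S) : beta B (c • x) y = c * beta B x y := smul_dotProduct _ _ _
theorem beta_smul_right (c : S) (x y : Fin n → S) : beta B x (c • y) = c * beta B x y := by
  simp [beta, mulVec_smul, dotProduct_smul]
theorem beta_neg_left (x y : Fin n → S) : beta B (-x) y = -beta B x y := neg_dotProduct _ _
theorem beta_sub_right (x y y' : Fin n → S) : beta B x (y - y') = beta B x y - beta B x y' := by
  simp [beta, mulVec_sub, dotProduct_sub]
theorem beta_sub_left (x x' y : Fin n → S) : beta B (x - x') y = beta B x y - beta B x' y := sub_dotProduct _ _ _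

variable (halt : ∀ x, beta B x x = 0)

include halt in
theorem beta_swap (x y : Fin n → S) : beta B x y = -beta B y x := by
  have h := halt (x + y)
  rw [beta_add_left, beta_add_right, beta_add_right, halt, halt] at h
  linear_combination h

/-- Transvection. -/
def trans (B : Matrix (Fin n) (Fin n) S) (a : S) (u : Fin n → S) : Matrix (Fin n) (Fin n) S :=
  1 + replicateCol Unit (a • u) * replicateRow Unit (u ᵥ* B)

theorem trans_mulVec (a : S) (u x : Fin n → S) : trans B a u *ᵥ x = x + (a * beta B u x) • u := by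
  rw [trans, add_mulVec, one_mulVec, ← mulVec_mulVec]
  congr 1
  ext i
  simp [mulVec, dotProduct, beta, vecMul, Finset.sum_mul, Finset.mul_sum, Matrix.replicateCol, Matrix.replicateRow]
  rw [Finset.sum_comm]
  exact Finset.sum_congr rfl fun j _ => Finset.sum_congr rfl fun l _ => by ring

include halt in
theorem trans_pres (a : S) (u : Fin n → S) : Pres B (trans B a u) := by
  intro x y
  simp only [trans_mulVec, beta_add_left, beta_add_right, beta_smul_left, beta_smul_right, halt]
  rw [beta_swap halt x u]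
  ring

include halt in
theorem det_trans (a : S) (u : Fin n → S) : (trans B a u).det = 1 := by
  rw [trans, det_one_add_replicateCol_mul_replicateRow, dotProduct_smul, ← dotProduct_mulVec]
  rw [show u ⬝ᵥ (B *ᵥ u) = 0 from halt u, smul_zero, add_zero]

include halt in
theorem move (K : Set (Fin n → S)) (v w : Fin n → S) (hK : ∀ k ∈ K, beta B k v = beta B k w)
    (hu : IsUnit (beta B v w)) :
    ∃ T : Matrix (Fin n) (Fin n) S, T.det = 1 ∧ Pres B T ∧ (∀ k ∈ K, T *ᵥ k = k) ∧ T *ᵥ v = w := by
  obtain ⟨c, hc⟩ := hu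
  refine ⟨trans B (-(↑c⁻¹ : S)) (w - v), det_trans halt _ _, trans_pres halt _ _, fun k hk => ?_, ?_⟩
  · rw [trans_mulVec, beta_swap halt (w - v) k, beta_sub_right, hK k hk, sub_self]; simp
  · rw [trans_mulVec, beta_sub_left, halt, sub_zero, beta_swap halt w v, ← hc]
    simp

theorem pres_mul {T G : Matrix (Fin n) (Fin n) S} (hT : Pres B T) (hG : Pres B G) : Pres B (T * G) := fun x y => by
  rw [← mulVec_mulVec, ← mulVec_mulVec, hT, hG]

theorem beta_single_left (i : Fin n) (y : Fin n → S) : beta B (Pi.single i 1) y = (B *ᵥ y) i := by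
  simp [beta]

include halt in
theorem step [IsLocalRing S] (hB : IsUnit B.det) (G : Matrix (Fin n) (Fin n) S) (hG : Pres B G) (hd : IsUnit G.det)
    (k : Fin n) (hfix : ∀ j, j < k → G *ᵥ Pi.single j 1 = Pi.single j 1) :
    ∃ T : Matrix (Fin n) (Fin n) S, T.det = 1 ∧ Pres B T ∧
      (∀ j, j ≤ k → (T * G) *ᵥ Pi.single j 1 = Pi.single j 1) := by
  classical
  set v : Fin n → S := Pi.single k 1 with hv
  set w := G *ᵥ v with hw
  set K : Set (Fin n → S) := (fun j => Pi.single j (1 : S)) '' {j | j < k} with hKdef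
  have hK : ∀ x ∈ K, beta B x w = beta B x v := by
    rintro _ ⟨j, hj, rfl⟩
    have := hG (Pi.single j 1) v
    rwa [hfix j hj] at this
  suffices h : ∃ T : Matrix (Fin n) (Fin n) S, T.det = 1 ∧ Pres B T ∧ (∀ x ∈ K, T *ᵥ x = x) ∧ T *ᵥ w = v by
    obtain ⟨T, h1, h2, h3, h4⟩ := h
    refine ⟨T, h1, h2, fun j hj => ?_⟩
    rw [← mulVec_mulVec]
    rcases lt_or_eq_of_le hj with h | rfl
    · rw [hfix j h]; exact h3 _ ⟨j, h, rfl⟩
    · exact h4
  by_cases hu : IsUnit (beta B w v)
  · exact move halt K w v hK hu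
  -- the intermediate vector
  obtain ⟨i, hki, hi⟩ : ∃ i, k ≤ i ∧ IsUnit (w i) := by
    by_contra hne
    push Not at hne
    let m := IsLocalRing.maximalIdeal S
    let x : Fin n → S := fun i => if i < k then w i else if i = k then -1 else 0
    have hx : x = (∑ j ∈ Finset.univ.filter (· < k), w j • Pi.single j (1 : S)) - v := by
      ext i
      simp only [x, hv, Pi.sub_apply, Finset.sum_apply, Pi.smul_apply, Pi.single_apply, smul_eq_mul, mul_ite, mul_one,
        mul_zero, Finset.sum_ite_eq, Finset.mem_filter, Finset.mem_univ, true_and]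
      split_ifs with h1 h2 <;> simp_all
    have hGx : ∀ i, (G *ᵥ x) i ∈ m := by
      intro i
      rw [hx, mulVec_sub, ← hw, mulVec_sum, Finset.sum_congr rfl (fun j hj => by
        rw [mulVec_smul, hfix j (Finset.mem_filter.mp hj).2] : ∀ j ∈ Finset.univ.filter (· < k),
          G *ᵥ (w j • Pi.single j (1 : S)) = w j • Pi.single j (1 : S))]
      simp only [Pi.sub_apply, Finset.sum_apply, Pi.smul_apply, Pi.single_apply, smul_eq_mul, mul_ite, mul_one,
        mul_zero, Finset.sum_ite_eq, Finset.mem_filter, Finset.mem_univ, true_and]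
      split_ifs with h1
      · simp
      · rw [zero_sub]; exact m.neg_mem ((IsLocalRing.mem_maximalIdeal _).mpr (hne i (not_lt.mp h1)))
    have h2 : (G.adjugate *ᵥ (G *ᵥ x)) k ∈ m := by
      simp only [mulVec, dotProduct]
      exact Ideal.sum_mem _ fun j _ => m.mul_mem_left _ (hGx j)
    rw [mulVec_mulVec, adjugate_mul, smul_mulVec, one_mulVec] at h2
    simp only [x, Pi.smul_apply, lt_irrefl, if_false, if_true, smul_eq_mul, mul_neg, mul_one] at h2
    exact (IsLocalRing.mem_maximalIdeal _).mp h2 hd.neg
  let t : Fin n → S := if IsUnit (w k) then Pi.single k 1 else Pi.single k 1 + Pi.single i 1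
  let y : Fin n → S := B⁻¹ *ᵥ t
  have hy : ∀ j, beta B (Pi.single j 1) y = t j := fun j => by
    rw [beta_single_left, mulVec_mulVec, mul_nonsing_inv _ hB, one_mulVec]
  have ht : ∀ j, j < k → t j = 0 := fun j hj => by
    simp only [t]
    split_ifs <;> simp [hj.ne, (lt_of_lt_of_le hj hki).ne]
  have htk : IsUnit (beta B v (v + y)) := by
    rw [beta_add_right, halt, zero_add, hv, hy]
    simp only [t]
    split_ifs with h
    · simp
    · rw [Pi.add_apply, Pi.single_eq_same, Pi.single_eq_of_ne (fun e => h (by rw [e]; exact hi)), add_zero]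
      exact isUnit_one
  have hwy : beta B w y = w ⬝ᵥ t := by
    rw [beta, mulVec_mulVec, mul_nonsing_inv _ hB, one_mulVec]
  have htw : IsUnit (beta B w (v + y)) := by
    rw [beta_add_right, hwy]
    by_contra hn
    have : IsUnit (w ⬝ᵥ t) := by
      simp only [t]
      split_ifs with h
      · simpa using h
      · rw [dotProduct_add, dotProduct_single, dotProduct_single, mul_one, mul_one]
        by_contra hn'
        have := (IsLocalRing.maximalIdeal S).sub_mem ((IsLocalRing.mem_maximalIdeal _).mpr hn')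
          ((IsLocalRing.mem_maximalIdeal _).mpr h)
        rw [add_sub_cancel_left] at this
        exact (IsLocalRing.mem_maximalIdeal _).mp this hi
    have h2 := (IsLocalRing.maximalIdeal S).sub_mem ((IsLocalRing.mem_maximalIdeal _).mpr hn)
          ((IsLocalRing.mem_maximalIdeal _).mpr hu)
    rw [add_sub_cancel_left] at h2
    exact (IsLocalRing.mem_maximalIdeal _).mp h2 this
  have hKy : ∀ x ∈ K, beta B x (v + y) = beta B x v := by
    rintro _ ⟨j, hj, rfl⟩
    rw [beta_add_right, hy, ht j hj, add_zero]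
  obtain ⟨T₁, a1, a2, a3, a4⟩ := move halt K w (v + y) (fun x hx => (hK x hx).trans (hKy x hx).symm) htw
  obtain ⟨T₂, b1, b2, b3, b4⟩ := move halt K (v + y) v hKy (by rw [beta_swap halt]; exact htk.neg)
  refine ⟨T₂ * T₁, by rw [det_mul, a1, b1, one_mul], pres_mul b2 a2, fun x hx => ?_, ?_⟩
  · rw [← mulVec_mulVec, a3 x hx, b3 x hx]
  · rw [← mulVec_mulVec, a4, b4]

theorem pres_iff (G : Matrix (Fin n) (Fin n) S) : Pres B G ↔ Gᵀ * B * G = B := by
  constructor
  · intro h
    ext i j
    have := h (Pi.single i 1) (Pi.single j 1)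
    simp only [beta, mulVec_single_one, single_one_dotProduct, col_apply] at this
    rw [← this, Matrix.mul_assoc, Matrix.mul_apply, dotProduct]
    simp [Matrix.mul_apply, mulVec, dotProduct]
  · intro h x y
    rw [beta, beta, mulVec_mulVec]
    conv_rhs => rw [← h, Matrix.mul_assoc, ← mulVec_mulVec, dotProduct_mulVec, vecMul_transpose]

include halt in
theorem det_eq_one_local [IsLocalRing S] (hB : IsUnit B.det) (G : Matrix (Fin n) (Fin n) S) (hG : Pres B G) :
    G.det = 1 := by
  have hd : ∀ G : Matrix (Fin n) (Fin n) S, Pres B G → IsUnit G.det := fun G hG => by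
    have := congrArg Matrix.det ((pres_iff G).mp hG)
    rw [det_mul, det_mul, det_transpose] at this
    rw [← this] at hB
    exact isUnit_of_mul_isUnit_right hB
  have main : ∀ k : ℕ, k ≤ n → ∃ H : Matrix (Fin n) (Fin n) S, H.det = 1 ∧ Pres B H ∧
      ∀ j : Fin n, (j : ℕ) < k → (H * G) *ᵥ Pi.single j 1 = Pi.single j 1 := by
    intro k
    induction k with
    | zero => exact fun _ => ⟨1, det_one, fun x y => by rw [one_mulVec, one_mulVec], fun j hj => absurd hj (Nat.not_lt_zero _)⟩
    | succ k ih =>
      intro hk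
      obtain ⟨H, h1, h2, h3⟩ := ih (Nat.le_of_succ_le hk)
      obtain ⟨T, t1, t2, t3⟩ := step halt hB (H * G) (pres_mul h2 hG) (hd _ (pres_mul h2 hG)) ⟨k, hk⟩
        (fun j hj => h3 j hj)
      exact ⟨T * H, by rw [det_mul, t1, h1, one_mul], pres_mul t2 h2, fun j hj => by
        rw [Matrix.mul_assoc]; exact t3 j (Nat.lt_succ_iff.mp hj)⟩
  obtain ⟨H, h1, -, h3⟩ := main n le_rfl
  have h4 : H * G = 1 := Matrix.ext_of_mulVec_single fun j => by rw [h3 j j.isLt, one_mulVec]
  have := congrArg Matrix.det h4
  rwa [det_mul, h1, one_mul, det_one] at this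

omit B halt in
theorem alt_of {B : Matrix (Fin n) (Fin n) S} (ht : Bᵀ = -B) (hd : ∀ i, B i i = 0) (x : Fin n → S) :
    beta B x x = 0 := by
  have hneg : ∀ i j, B j i = -B i j := fun i j => congrFun (congrFun ht i) j
  simp only [beta, dotProduct, mulVec, Finset.mul_sum]
  rw [← Finset.sum_product']
  refine Finset.sum_involution (fun p _ => (p.2, p.1)) (fun p _ => ?_) (fun p _ hne he => hne ?_)
    (fun p _ => by simp) (fun p _ => rfl)
  · rw [hneg p.1 p.2]; ring
  · have : p.1 = p.2 := (congrArg Prod.fst he).symm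
    rw [this, hd]; ring

/-- An automorphism of a perfect alternating pairing has determinant one. -/
theorem det_eq_one {R : Type u} [CommRing R] (B G : Matrix (Fin n) (Fin n) R) (ht : Bᵀ = -B)
    (hd : ∀ i, B i i = 0) (hB : IsUnit B.det) (hG : Gᵀ * B * G = B) : G.det = 1 := by
  rw [← sub_eq_zero]
  refine eq_zero_of_localization _ fun J hJ => ?_
  set f := algebraMap R (Localization.AtPrime J)
  have h := det_eq_one_local (B := B.map f) (alt_of (by rw [← transpose_map, ht]; ext; simp)
    (fun i => by simp [hd]))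
    (by rw [← RingHom.mapMatrix_apply, ← RingHom.map_det]; exact hB.map f) (G.map f)
    ((pres_iff _).mpr (by rw [← transpose_map, ← Matrix.map_mul, ← Matrix.map_mul, hG]))
  rw [← RingHom.mapMatrix_apply, ← RingHom.map_det] at h
  rw [map_sub, h, map_one, sub_self]

end Groth.Agent.Lib.QuadGrp99.AltDet
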