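import Groth.Agent.Lib.QuadGrp99.HalfDisc
import Mathlib.Algebra.DualNumber
import Mathlib.LinearAlgebra.Transvection.Basic
import Mathlib.Tactic.NoncommRing
import Mathlib.Tactic.Module

/-!
# Centralisers of the orthogonal groups
-/

noncomputable section

universe u v

open scoped Matrix TensorProduct

namespace Groth.Agent.Lib.QuadGrp99.Centralizer

open QuadGrp

section Infinitesimal

variable {A : Type*} [CommRing A] {V : Type*} [AddCommGroup V] [Module A V] (q : QuadraticForm A V) (e : A) (x y : V)

/-- `v ↦ v + e • (B(x, v) y - B(y, v) x)`. -/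
def infMap : V →ₗ[A] V :=
  LinearMap.id + e • ((q.polarBilin x).smulRight y - (q.polarBilin y).smulRight x)

theorem infMap_apply (v : V) :
    infMap q e x y v = v + e • (QuadraticMap.polar q x v • y - QuadraticMap.polar q y v • x) := by
  simp [infMap]

variable {e} (he : e * e = 0)

include he in
theorem infMap_comp : infMap q (-e) x y ∘ₗ infMap q e x y = LinearMap.id := by
  refine LinearMap.ext fun v => ?_
  simp only [LinearMap.comp_apply, LinearMap.id_apply, infMap_apply]
  simp only [← QuadraticMap.polarBilin_apply_apply, map_add, map_smul, map_sub, smul_eq_mul, smul_sub, sub_smul,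
    add_smul, smul_add, smul_smul, neg_mul, neg_smul, mul_add, mul_sub]
  simp only [← mul_assoc, he, zero_mul, zero_smul]
  abel

/-- The infinitesimal isometry attached to `x ∧ y`. -/
def inf : V ≃ₗ[A] V :=
  LinearEquiv.ofLinearMap (infMap q e x y) (infMap q (-e) x y)
    (by have := infMap_comp q x y (e := -e) (by simp [he]); rwa [neg_neg] at this)
    (infMap_comp q x y he)

theorem inf_apply (v : V) :
    inf q x y he v = v + e • (QuadraticMap.polar q x v • y - QuadraticMap.polar q y v • x) :=
  infMap_apply q e x y v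

theorem inf_mem : inf q x y he ∈ QuadGrp.O q := by
  intro v
  rw [inf_apply, QuadraticMap.map_add q, QuadraticMap.map_smul, QuadraticMap.polar_smul_right,
    QuadraticMap.polar_sub_right, QuadraticMap.polar_smul_right, QuadraticMap.polar_smul_right, he, zero_smul]
  simp only [smul_eq_mul, QuadraticMap.polar_comm q v]
  ring

theorem det_inf [Module.Free A V] [Module.Finite A V] : LinearEquiv.det (inf q x y he) = 1 := by
  refine Units.ext ?_
  rw [LinearEquiv.coe_det, Units.val_one]
  have : (inf q x y he).toLinearMap = LinearMap.transvection (q.polarBilin x) (e • y) ∘ₗ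
      LinearMap.transvection (q.polarBilin y) (-(e • x)) := by
    refine LinearMap.ext fun v => ?_
    rw [LinearMap.comp_apply, LinearEquiv.coe_coe, inf_apply]
    simp only [LinearMap.transvection.apply, ← QuadraticMap.polarBilin_apply_apply, map_add, map_neg, map_smul,
      smul_eq_mul]
    generalize q.polarBilin x v = a
    generalize q.polarBilin y v = c
    generalize q.polarBilin x x = d
    rw [smul_add e x, smul_comm e d (e • y), smul_smul e e, he, zero_smul, smul_zero, add_zero]
    module
  rw [this, LinearMap.det_comp, LinearMap.transvection.det, LinearMap.transvection.det]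
  simp only [← QuadraticMap.polarBilin_apply_apply, map_neg, map_smul, smul_eq_mul]
  rw [show q.polarBilin y x = q.polarBilin x y from QuadraticMap.polar_comm q y x]
  linear_combination (-(q.polarBilin x y ^ 2)) * he

theorem inf_mem_SO' [Module.Free A V] [Module.Finite A V] : inf q x y he ∈ QuadGrp.SO' q :=
  ⟨inf_mem q x y he, det_inf q x y he⟩

theorem inf_mem_SOeven : inf q x y he ∈ QuadGrp.SOeven q := by
  refine ⟨inf_mem q x y he, fun z hz => ?_⟩
  set w : CliffordAlgebra q := e • (CliffordAlgebra.ι q x * CliffordAlgebra.ι q y) with hw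
  have hee : ∀ (a b : CliffordAlgebra q), e • a * (e • b) = 0 := fun a b => by
    rw [smul_mul_assoc, mul_smul_comm, smul_smul, he, zero_smul]
  have hw2 : w * w = 0 := hee _ _
  let u : (CliffordAlgebra q)ˣ := ⟨1 - w, 1 + w, by rw [sub_mul, mul_add, mul_add, hw2]; simp,
    by rw [add_mul, mul_sub, mul_sub, hw2]; simp⟩
  let conj : CliffordAlgebra q →ₐ[A] CliffordAlgebra q :=
    { toFun := fun t => (u : CliffordAlgebra q) * t * ↑u⁻¹
      map_one' := by simp
      map_mul' := fun s t => by simp [mul_assoc]
      map_zero' := by simp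
      map_add' := fun s t => by rw [mul_add, add_mul]
      commutes' := fun r => by
        rw [← Algebra.commutes, mul_assoc, Units.mul_inv, mul_one] }
  have hconj : CliffordAlgebra.map (QuadGrp.isometryOfMem q _ (inf_mem q x y he)) = conj := by
    refine CliffordAlgebra.hom_ext (LinearMap.ext fun v => ?_)
    simp only [LinearMap.comp_apply, AlgHom.toLinearMap_apply, CliffordAlgebra.map_apply_ι,
      QuadGrp.isometryOfMem_apply, inf_apply]
    show _ = (1 - w) * CliffordAlgebra.ι q v * (1 + w)
    have h1 : w * CliffordAlgebra.ι q v * w = 0 := by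
      rw [hw, smul_mul_assoc, hee]
    rw [sub_mul, one_mul, mul_add, mul_one, sub_mul, h1, sub_zero, hw, smul_mul_assoc, mul_smul_comm,
      sub_add_eq_add_sub, add_sub_assoc, ← smul_sub]
    rw [map_add, map_smul, map_sub, map_smul, map_smul]
    congr 2
    rw [Algebra.smul_def, Algebra.smul_def, Algebra.commutes (QuadraticMap.polar q y v) (CliffordAlgebra.ι q x),
      ← CliffordAlgebra.ι_mul_ι_add_swap (Q := q) x v, ← CliffordAlgebra.ι_mul_ι_add_swap (Q := q) y v]
    noncomm_ring
  have hwe : w ∈ CliffordAlgebra.even q :=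
    Subalgebra.smul_mem _ (CliffordAlgebra.ι_mul_ι_mem_evenOdd_zero q x y) e
  have hcomm := congrArg Subtype.val ((Subalgebra.mem_center_iff (R := A)).1 hz ⟨w, hwe⟩)
  simp only [Subalgebra.coe_mul] at hcomm
  rw [hconj]
  show (1 - w) * (z : CliffordAlgebra q) * (1 + w) = z
  rw [sub_mul, one_mul, hcomm, mul_add, mul_one, sub_mul, mul_assoc, hw2, mul_zero, sub_zero, sub_add_cancel]

theorem inf_mem_SO [Module.Free A V] [Module.Finite A V] : inf q x y he ∈ QuadGrp.SO q := by
  rw [QuadGrp.SO]
  split
  · exact inf_mem_SOeven q x y he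
  · exact inf_mem_SO' q x y he

end Infinitesimal

variable {R : Type u} [CommRing R]

open DualNumber in
theorem commutes_inf {M : Type v} [AddCommGroup M] [Module R M] [Module.Free R M] (Q : QuadraticForm R M)
    (g : M ≃ₗ[R] M) (u w : M)
    (hcomm : g.baseChange R (DualNumber R) M M *
        inf (baseChangeForm (DualNumber R) Q) ((1 : DualNumber R) ⊗ₜ[R] u) ((1 : DualNumber R) ⊗ₜ[R] w)
          (e := ε) eps_mul_eps =
      inf (baseChangeForm (DualNumber R) Q) ((1 : DualNumber R) ⊗ₜ[R] u) ((1 : DualNumber R) ⊗ₜ[R] w)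
          (e := ε) eps_mul_eps * g.baseChange R (DualNumber R) M M) (v : M) :
    g (QuadraticMap.polar Q u v • w - QuadraticMap.polar Q w v • u) =
      QuadraticMap.polar Q u (g v) • w - QuadraticMap.polar Q w (g v) • u := by
  have hpol : ∀ a b : M, QuadraticMap.polar (baseChangeForm (DualNumber R) Q) ((1 : DualNumber R) ⊗ₜ[R] a)
      ((1 : DualNumber R) ⊗ₜ[R] b) = algebraMap R _ (QuadraticMap.polar Q a b) := fun a b => by
    rw [QuadraticMap.polar, QuadraticMap.polar, ← TensorProduct.tmul_add, HalfDisc.baseChangeForm_tmul,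
      HalfDisc.baseChangeForm_tmul, HalfDisc.baseChangeForm_tmul, map_sub, map_sub]
  have hT : ∀ a : M, inf (baseChangeForm (DualNumber R) Q) ((1 : DualNumber R) ⊗ₜ[R] u)
      ((1 : DualNumber R) ⊗ₜ[R] w) (e := ε) eps_mul_eps ((1 : DualNumber R) ⊗ₜ[R] a) =
      (1 : DualNumber R) ⊗ₜ[R] a +
        (ε : DualNumber R) ⊗ₜ[R] (QuadraticMap.polar Q u a • w - QuadraticMap.polar Q w a • u) := by
    intro a
    rw [inf_apply, hpol, hpol, algebraMap_smul, algebraMap_smul, ← TensorProduct.tmul_smul,
      ← TensorProduct.tmul_smul, ← TensorProduct.tmul_sub, TensorProduct.smul_tmul', smul_eq_mul, mul_one]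
  have h1 := LinearEquiv.congr_fun hcomm ((1 : DualNumber R) ⊗ₜ[R] v)
  simp only [LinearEquiv.mul_apply, LinearEquiv.baseChange_tmul, hT, map_add] at h1
  have h2 := congrArg (fun z => TensorProduct.lid R M ((TrivSqZeroExt.sndHom R R).rTensor M z)) h1
  simpa using h2

/-- An isometry commuting with all infinitesimal isometries is a scalar of square one. -/
theorem eq_smul {n : ℕ} (hn : 3 ≤ n) (Q : QuadraticForm R (Fin n → R))
    (hQ : IsNondeg (Pi.basisFun R (Fin n)) (LinearEquiv.refl R R) Q) (g : (Fin n → R) ≃ₗ[R] (Fin n → R))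
    (hg : g ∈ QuadGrp.O Q)
    (hcomm : ∀ u w v : Fin n → R, g (QuadraticMap.polar Q u v • w - QuadraticMap.polar Q w v • u) =
      QuadraticMap.polar Q u (g v) • w - QuadraticMap.polar Q w (g v) • u) :
    ∃ c : R, c * c = 1 ∧ ∀ v, g v = c • v := by
  classical
  let b := Pi.basisFun R (Fin n)
  obtain ⟨B, hB⟩ := HalfDisc.exists_bilin b Q
  set U := LinearMap.toMatrix₂ b b B with hUdef
  set P := U + Uᵀ
  have hpol : ∀ x j, QuadraticMap.polar Q x (b j) = (x ᵥ* P) j := by
    intro x j
    rw [HalfDisc.polar_of_bilin Q hB]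
    conv_lhs => rw [← b.sum_repr x]
    simp only [map_sum, map_smul, LinearMap.sum_apply, LinearMap.smul_apply, smul_eq_mul, Matrix.vecMul, dotProduct,
      P, hUdef, Matrix.add_apply, Matrix.transpose_apply, LinearMap.toMatrix₂_apply, ← Finset.sum_add_distrib]
    exact Finset.sum_congr rfl fun i _ => by simp [b, mul_add]
  have hinj : ∀ Z : Matrix (Fin n) (Fin n) R, (∀ i j, Z i j = - Z j i) → (∀ i, Z i i = 0) → Z * P = 0 → Z = 0 := by
    intro Z halt hdiag hZ
    rcases Nat.even_or_odd n with he | ho
    · have hinj : Function.Injective (P *ᵥ ·) := by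
        intro r s hrs
        have h1 : Q.polarBilin (b.equivFun.symm (r - s)) = 0 := by
          rw [HalfDisc.polarBilin_eq b Q hB]
          show P *ᵥ ⇑(b.repr _) = 0
          rw [show ⇑(b.repr (b.equivFun.symm (r - s))) = r - s from b.equivFun.apply_symm_apply _,
            Matrix.mulVec_sub]
          exact sub_eq_zero.2 hrs
        have h2 := (hQ.1 he).1 (h1.trans (map_zero Q.polarBilin).symm)
        have h4 := congrArg b.equivFun h2
        rw [LinearEquiv.apply_symm_apply, map_zero] at h4
        exact sub_eq_zero.1 h4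
      have hPs : Pᵀ = P := by simp [P, Matrix.transpose_add, add_comm]
      ext i j
      have h3 : P *ᵥ (fun q => Z i q) = P *ᵥ 0 := by
        rw [Matrix.mulVec_zero, ← hPs, Matrix.mulVec_transpose]
        funext q
        exact congrFun (congrFun hZ i) q
      exact congrFun (hinj h3) j
    · exact HalfDisc.alt_eq_zero ho U (by rw [hUdef, ← HalfDisc.halfDisc_eq b Q hB]; exact hQ.2 ho) Z halt hdiag hZ
  let G : Matrix (Fin n) (Fin n) R := LinearMap.toMatrix b b g.toLinearMap
  have hG : ∀ i p, g (b i) p = G p i := fun i p => by simp [G, LinearMap.toMatrix_apply, b]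
  have hmin : ∀ a c : Fin n → R, ∀ p q, g c p * g a q - g a p * g c q = c p * a q - a p * c q := by
    intro a c
    let Z : Matrix (Fin n) (Fin n) R := .of fun p q => (g c p * g a q - g a p * g c q) - (c p * a q - a p * c q)
    suffices Z = 0 from fun p q => sub_eq_zero.1 (congrFun (congrFun this p) q)
    refine hinj Z (fun i j => by simp [Z]; ring) (fun i => by simp [Z]; ring) ?_
    ext p j
    have hv := hcomm (g a) (g c) (b j)
    have hiso : ∀ s t, QuadraticMap.polar Q (g s) (g t) = QuadraticMap.polar Q s t := fun s t => by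
      rw [QuadraticMap.polar, QuadraticMap.polar, ← map_add, hg, hg, hg]
    rw [hiso, hiso] at hv
    have hv' : QuadraticMap.polar Q (g a) (b j) • g c - QuadraticMap.polar Q (g c) (b j) • g a =
        QuadraticMap.polar Q a (b j) • c - QuadraticMap.polar Q c (b j) • a :=
      g.injective (by rw [hv]; simp only [map_sub, map_smul])
    have h2 := congrFun hv' p
    simp only [Pi.sub_apply, Pi.smul_apply, smul_eq_mul, hpol, Matrix.vecMul, dotProduct, Finset.sum_mul] at h2
    simp only [Z, Matrix.mul_apply, Matrix.of_apply, Matrix.zero_apply, sub_mul, Finset.sum_sub_distrib]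
    rw [sub_eq_zero]
    calc (∑ q, g c p * g a q * P q j) - ∑ q, g a p * g c q * P q j
        = (∑ q, g a q * P q j * g c p) - ∑ q, g c q * P q j * g a p := by
          congr 1 <;> exact Finset.sum_congr rfl fun q _ => by ring
      _ = (∑ q, a q * P q j * c p) - ∑ q, c q * P q j * a p := h2
      _ = (∑ q, c p * a q * P q j) - ∑ q, a p * c q * P q j := by
          congr 1 <;> exact Finset.sum_congr rfl fun q _ => by ring
  have hGmin : ∀ i j p q, G p i * G q j - G q i * G p j =
      (if p = i then 1 else 0) * (if q = j then 1 else 0) - (if q = i then 1 else 0) * (if p = j then 1 else 0) := by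
    intro i j p q
    have := hmin (b j) (b i) p q
    simp only [hG] at this
    rw [mul_comm (G p j)] at this
    simpa [b, Pi.single_apply, mul_comm] using this
  have third : ∀ k i, ∃ j : Fin n, j ≠ k ∧ j ≠ i := fun k i => by
    obtain ⟨j, hj⟩ := Finset.exists_mem_notMem_of_card_lt_card (s := ({k, i} : Finset (Fin n))) (t := Finset.univ)
      (lt_of_le_of_lt Finset.card_le_two (by simp; omega))
    exact ⟨j, by simpa [not_or] using hj.2⟩
  have hoff : ∀ k i, k ≠ i → G k i = 0 := by
    intro k i hki
    obtain ⟨j, hjk, hji⟩ := third k i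
    have h1 := hGmin i j i j
    have h2 := hGmin i j j k
    have h3 := hGmin i j k i
    simp [hki, Ne.symm hki, hjk, Ne.symm hjk, hji, Ne.symm hji] at h1 h2 h3
    linear_combination (-G k i) * h1 - G i i * h2 - G j i * h3
  have hprod : ∀ i j, i ≠ j → G i i * G j j = 1 := fun i j hij => by
    have h1 := hGmin i j i j
    simp [hoff _ _ (Ne.symm hij), hoff _ _ hij, hij, Ne.symm hij] at h1
    exact h1
  let i₀ : Fin n := ⟨0, by omega⟩
  have hdiag : ∀ i, G i i = G i₀ i₀ := fun i => by
    rcases eq_or_ne i i₀ with rfl | hi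
    · rfl
    obtain ⟨j, hj1, hj2⟩ := third i i₀
    calc G i i = G i i * (G j j * G i₀ i₀) := by rw [hprod _ _ hj2, mul_one]
      _ = (G i i * G j j) * G i₀ i₀ := (mul_assoc _ _ _).symm
      _ = G i₀ i₀ := by rw [hprod _ _ hj1.symm, one_mul]
  refine ⟨G i₀ i₀, ?_, fun v => ?_⟩
  · obtain ⟨j, hj, -⟩ := third i₀ i₀
    conv_lhs => arg 2; rw [← hdiag j]
    exact hprod _ _ hj.symm
  · have : g.toLinearMap = G i₀ i₀ • LinearMap.id := b.ext fun i => funext fun p => by
      rw [LinearEquiv.coe_coe, hG]
      rcases eq_or_ne p i with rfl | hpi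
      · simp [hdiag, b]
      · simp [hoff _ _ hpi, b, hpi]
    exact LinearMap.congr_fun this v

theorem commute_of_smul {M : Type v} [AddCommGroup M] [Module R M] (g : M ≃ₗ[R] M) {c : R} (hc : ∀ v, g v = c • v)
    (A : Type*) [CommRing A] [Algebra R A] (h : (A ⊗[R] M) ≃ₗ[A] (A ⊗[R] M)) :
    g.baseChange R A M M * h = h * g.baseChange R A M M := by
  have hgA : ∀ z, g.baseChange R A M M z = algebraMap R A c • z := fun z => by
    induction z using TensorProduct.induction_on with
    | zero => simp
    | tmul a x => rw [LinearEquiv.baseChange_tmul, hc, TensorProduct.tmul_smul, algebraMap_smul]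
    | add a b ha hb => rw [map_add, ha, hb, smul_add]
  refine LinearEquiv.ext fun z => ?_
  simp only [LinearEquiv.mul_apply, hgA, map_smul]

open DualNumber in
/-- The centraliser of a family containing the infinitesimal isometries. -/
theorem centralizes_iff {n : ℕ} (hn : 3 ≤ n) (Q : QuadraticForm R (Fin n → R))
    (hQ : IsNondeg (Pi.basisFun R (Fin n)) (LinearEquiv.refl R R) Q) (g : (Fin n → R) ≃ₗ[R] (Fin n → R))
    (hg : g ∈ QuadGrp.O Q)
    (S : ∀ (A : Type u) [CommRing A] [Algebra R A], Subgroup ((A ⊗[R] (Fin n → R)) ≃ₗ[A] (A ⊗[R] (Fin n → R))))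
    (hS : ∀ u w : Fin n → R, inf (baseChangeForm (DualNumber R) Q) ((1 : DualNumber R) ⊗ₜ[R] u)
      ((1 : DualNumber R) ⊗ₜ[R] w) (e := ε) eps_mul_eps ∈ S (DualNumber R)) :
    (∀ (A : Type u) [CommRing A] [Algebra R A], ∀ h ∈ S A,
        g.baseChange R A (Fin n → R) (Fin n → R) * h = h * g.baseChange R A (Fin n → R) (Fin n → R)) ↔
      ∃ c : R, c * c = 1 ∧ ∀ v, g v = c • v := by
  refine ⟨fun hall => eq_smul hn Q hQ g hg fun u w v => commutes_inf Q g u w (hall _ _ (hS u w)) v, ?_⟩
  rintro ⟨c, -, hc⟩ A _ _ h -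
  exact commute_of_smul g hc A h

theorem baseChangeForm_O_le {M : Type v} [AddCommGroup M] [Module R M] [Module.Free R M] (Q : QuadraticForm R M)
    (A : Type*) [CommRing A] [Algebra R A] : QuadGrp.O (baseChangeForm A Q) ≤ QuadGrp.orth Q A := fun g hg v =>
  (TensorProduct.AlgebraTensorModule.rid R A A).injective (hg v)

theorem SO_le_O {M : Type v} [AddCommGroup M] [Module R M] (Q : QuadraticForm R M) : QuadGrp.SO Q ≤ QuadGrp.O Q := by
  intro g hg
  rw [QuadGrp.SO] at hg
  split at hg
  · exact hg.1
  · exact hg.1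

end Groth.Agent.Lib.QuadGrp99.Centralizer
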