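import Groth.Agent.Lib.QuadGrp99.OrthSmooth
import Groth.Agent.Lib.QuadGrp99.Cliff.Odd.Local
import Mathlib.FieldTheory.IsAlgClosed.Basic
import Mathlib.FieldTheory.IsAlgClosed.AlgebraicClosure
import Mathlib.RingTheory.Smooth.Flat
import Mathlib.RingTheory.Flat.FaithfullyFlat.Algebra
import Mathlib.RingTheory.AdjoinRoot

/-!
# Semiregular forms of odd rank split fppf locally
-/

noncomputable section

open scoped Matrix TensorProduct

universe u

namespace Groth.Agent.Lib.QuadGrp99.SplitFppf

open QuadGrp HalfDisc OrthSmooth Rep Groth.Agent.Lib.QuadGrp99.Cliff Groth.Agent.Lib.QuadGrp99.Cliff.Odd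

variable {R : Type u} [CommRing R]

theorem splitForm_map {A : Type*} [CommRing A] (f : R →+* A) (n : ℕ) (x : Fin n → R) :
    f (splitForm R n x) = splitForm A n (fun i => f (x i)) := by
  simp only [QuadGrp.splitForm, QuadraticMap.add_apply, QuadraticMap.sum_apply, QuadraticMap.linMulLin_apply,
    map_add, map_sum, map_mul, LinearMap.proj_apply]
  split_ifs <;> simp

theorem QA_split_apply (n : ℕ) (A : Type u) [CommRing A] [Algebra R A] (x : A ⊗[R] (Fin n → R)) :
    QA A (splitForm R n) x = splitForm A n ((bA R n A).equivFun x) := by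
  have h1 : ∀ v : Fin n → R, (bA R n A).equivFun ((1 : A) ⊗ₜ[R] v) = fun i => algebraMap R A (v i) := fun v => by
    funext i
    simp [Module.Basis.equivFun_apply, Algebra.algebraMap_eq_smul_one]
  have h : QA A (splitForm R n) = (splitForm A n).comp (bA R n A).equivFun.toLinearMap := by
    refine ext_coeffs (bA R n A) (funext fun s => ?_)
    induction s using Sym2.ind with
    | h i j =>
      simp only [coeffs_mk, LinearEquiv.refl_apply, Module.Basis.baseChange_apply]
      have h2 : ∀ v : Fin n → R, QA A (splitForm R n) ((1 : A) ⊗ₜ[R] v) =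
          (splitForm A n).comp (bA R n A).equivFun.toLinearMap ((1 : A) ⊗ₜ[R] v) := fun v => by
        rw [QA_one_tmul, QuadraticMap.comp_apply, LinearEquiv.coe_coe, h1, splitForm_map]
      split_ifs
      · exact h2 _
      · simp only [QuadraticMap.polar, ← TensorProduct.tmul_add, h2]
  exact congrArg (fun q => q x) h

variable {n : ℕ}

theorem comp_eq_iff (Q Q' : QuadraticForm R (Fin n → R)) (A : Type u) [CommRing A] [Algebra R A]
    (f f' : (A ⊗[R] (Fin n → R)) →ₗ[A] (A ⊗[R] (Fin n → R))) :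
    (QA A Q).comp f = (QA A Q').comp f' ↔
      aU ((LinearMap.toMatrix (bA R n A) (bA R n A) f)ᵀ * (matU Q).map (algebraMap R A) *
          LinearMap.toMatrix (bA R n A) (bA R n A) f) =
        aU ((LinearMap.toMatrix (bA R n A) (bA R n A) f')ᵀ * (matU Q').map (algebraMap R A) *
          LinearMap.toMatrix (bA R n A) (bA R n A) f') := by
  let b := bA R n A
  have key : ∀ (P : QuadraticForm R (Fin n → R)) (g : (A ⊗[R] (Fin n → R)) →ₗ[A] (A ⊗[R] (Fin n → R))),
      coeffs b (LinearEquiv.refl A A) ((QA A P).comp g) =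
        aU ((LinearMap.toMatrix b b g)ᵀ * (matU P).map (algebraMap R A) * LinearMap.toMatrix b b g) := fun P g => by
    let U := (matU P).map (algebraMap R A)
    let Bf := Matrix.toLinearMap₂ b b U
    let QB : QuadraticForm A (A ⊗[R] (Fin n → R)) := LinearMap.BilinMap.toQuadraticMap Bf
    have hB : LinearMap.toMatrix₂ b b Bf = U := LinearMap.toMatrix₂_toLinearMap₂ b b U
    have hQB : ∀ x, Bf x x = QB x := fun x => rfl
    have hQ : QB = QA A P := ext_coeffs b (by rw [coeffs_eq b QB hQB, hB, coeffs_baseChangeForm])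
    rw [← hQ, coeffs_eq b (QB.comp g) (B := Bf.compl₁₂ g g) fun x => hQB (g x),
      LinearMap.toMatrix₂_compl₁₂ b b b b, hB]
  rw [← key, ← key]
  exact ⟨fun e => by rw [e], ext_coeffs b⟩

theorem binary {K : Type*} [Field K] [IsAlgClosed K] (c d : K) (hc : c ≠ 0) (hd : 4 * c * d - 1 ≠ 0) :
    ∃ p p' : K × K, ∀ a b : K, c * (a * p.1 + b * p'.1) ^ 2 + (a * p.1 + b * p'.1) * (a * p.2 + b * p'.2) +
      d * (a * p.2 + b * p'.2) ^ 2 = a * b := by
  obtain ⟨ρ, hρ⟩ := IsAlgClosed.exists_root (Polynomial.C c * Polynomial.X ^ 2 + Polynomial.C 1 * Polynomial.X + Polynomial.C d)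
    (by rw [Polynomial.degree_quadratic hc]; decide)
  simp only [Polynomial.IsRoot.def, Polynomial.eval_add, Polynomial.eval_mul, Polynomial.eval_C, Polynomial.eval_pow,
    Polynomial.eval_X, one_mul] at hρ
  obtain ⟨i, hi⟩ : ∃ i, c * i = 1 := ⟨c⁻¹, mul_inv_cancel₀ hc⟩
  obtain ⟨k, hk⟩ : ∃ k, (4 * c * d - 1) * k = 1 := ⟨_, mul_inv_cancel₀ hd⟩
  refine ⟨(ρ, 1), (c * k * (-ρ - i), c * k), fun a b => ?_⟩
  have hρσ : ρ * (-ρ - i) = i * d := by linear_combination (-i) * hρ + ρ ^ 2 * hi
  linear_combination (a ^ 2 + b ^ 2 * (c * k) ^ 2) * hρ +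
    (b ^ 2 * (c * k) ^ 2 * (ρ * 2 + i) + a * b * c * k * (-1)) * hi + 2 * a * b * c * k * c * hρσ +
    a * b * hk + (2 * a * b * k * c * d + c * a * b * k - a * b * k) * hi

theorem exists_iso_split {K : Type u} [Field K] [IsAlgClosed K] [Algebra R K] (m : ℕ)
    (q : QuadraticForm K (K ⊗[R] (Fin (2 * m + 1) → R)))
    (hq : QuadGrp.IsSemiregular (bA R (2 * m + 1) K) (LinearEquiv.refl K K) q) :
    ∃ L : (K ⊗[R] (Fin (2 * m + 1) → R)) →ₗ[K] (K ⊗[R] (Fin (2 * m + 1) → R)),
      Function.Injective L ∧ q.comp L = QA K (splitForm R (2 * m + 1)) := by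
  obtain ⟨F⟩ := exists_frame
    (show InfRes K from ⟨Infinite.natEmbedding K, fun i j hij => isUnit_iff_ne_zero.2
      (sub_ne_zero.2 fun h => hij ((Infinite.natEmbedding K).injective h))⟩)
    (adm_of_semiregular (odd_two_mul_add_one m) (bA R (2 * m + 1) K) q hq) m
    (by rw [Module.finrank_eq_card_basis (bA R (2 * m + 1) K), Fintype.card_fin])
  choose p p' hp using fun i => binary (F.P.c i : K) (q (F.P.f i)) (F.P.c i).ne_zero
    (by rw [← F.P.qe, F.P.disc]; exact (F.P.d i).ne_zero)
  obtain ⟨r, hr⟩ := IsAlgClosed.exists_eq_mul_self ((↑F.c⁻¹ : K))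
  let co : Fin (2 * m + 1) → (K ⊗[R] (Fin (2 * m + 1) → R)) →ₗ[K] K := fun j => (bA R (2 * m + 1) K).coord j
  let y : (K ⊗[R] (Fin (2 * m + 1) → R)) →ₗ[K] (Fin m → K × K) := LinearMap.pi fun i =>
    (co ⟨2 * i + 1, by omega⟩).smulRight (p i) + (co ⟨2 * i + 2, by omega⟩).smulRight (p' i)
  let L := F.P.comb.comp y + (co ⟨0, by omega⟩).smulRight (r • F.e)
  have hsplit : ∀ x : Fin (2 * m + 1) → K, splitForm K (2 * m + 1) x =
      (∑ i : Fin m, x ⟨2 * i + 1, by omega⟩ * x ⟨2 * i + 2, by omega⟩) + x ⟨0, by omega⟩ * x ⟨0, by omega⟩ :=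
    fun x => by
      simp only [QuadGrp.splitForm, QuadraticMap.add_apply, QuadraticMap.sum_apply, QuadraticMap.linMulLin_apply,
        LinearMap.proj_apply]
      rw [dif_pos (by omega)]
      simp only [QuadraticMap.comp_apply, QuadraticMap.sq_apply, LinearMap.proj_apply]
      congr 1
      refine Fintype.sum_equiv (finCongr (by omega)) _ _ fun i => ?_
      congr 2 <;> (apply Fin.ext; simp) <;> omega
  have hL : q.comp L = QA K (splitForm R (2 * m + 1)) := QuadraticMap.ext fun x => by
    rw [QA_split_apply, hsplit, QuadraticMap.comp_apply]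
    have e1 : q (L x) = q (F.P.comb (y x)) + co ⟨0, by omega⟩ x * co ⟨0, by omega⟩ x := by
      show q (F.P.comb (y x) + co ⟨0, by omega⟩ x • r • F.e) = _
      rw [QuadraticMap.map_add q, QuadraticMap.map_smul, QuadraticMap.map_smul, F.qe,
        QuadraticMap.polar_smul_right, QuadraticMap.polar_smul_right, QuadraticMap.polar_comm, F.polar_e,
        smul_zero, smul_zero, add_zero, smul_eq_mul, smul_eq_mul, ← hr, Units.inv_mul, mul_one]
    rw [e1]
    congr 1
    have e2 : F.P.comb (y x) = ∑ i, ((y x i).1 • F.P.e i + (y x i).2 • F.P.f i) := by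
      rw [Pairs.comb_apply, Finset.sum_add_distrib]
    rw [e2, QuadraticMap.map_sum]
    have e3 : ∀ i j, i ≠ j → QuadraticMap.polar q ((y x i).1 • F.P.e i + (y x i).2 • F.P.f i)
        ((y x j).1 • F.P.e j + (y x j).2 • F.P.f j) = 0 := fun i j hij => by
      simp only [QuadraticMap.polar_add_left, QuadraticMap.polar_add_right, QuadraticMap.polar_smul_left,
        QuadraticMap.polar_smul_right, F.P.ee i j hij, F.P.ff i j hij, F.P.ef i j hij,
        QuadraticMap.polar_comm q (F.P.f i) (F.P.e j), F.P.ef j i hij.symm, smul_zero, add_zero]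
    rw [Finset.sum_eq_zero (s := Finset.filter _ _), add_zero]
    · refine Finset.sum_congr rfl fun i _ => ?_
      rw [QuadraticMap.map_add q, QuadraticMap.map_smul, QuadraticMap.map_smul, F.P.qe,
        QuadraticMap.polar_smul_left, QuadraticMap.polar_smul_right, F.P.pol]
      simp only [y, co, LinearMap.pi_apply, LinearMap.add_apply, LinearMap.smulRight_apply, Prod.fst_add,
        Prod.snd_add, Prod.smul_fst, Prod.smul_snd, smul_eq_mul, mul_one, Module.Basis.coord_apply,
        Module.Basis.equivFun_apply]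
      linear_combination hp i ((bA R (2 * m + 1) K).repr x ⟨2 * i + 1, by omega⟩)
        ((bA R (2 * m + 1) K).repr x ⟨2 * i + 2, by omega⟩)
    · intro s hs
      induction s using Sym2.ind with
      | h i j =>
        simp only [Finset.mem_filter, Sym2.mk_isDiag_iff] at hs
        simp only [Sym2.map_mk, QuadraticMap.polarSym2_sym2Mk, e3 i j hs.2]
  refine ⟨L, (injective_iff_map_eq_zero L).2 fun x hx => ?_, hL⟩
  have hs : ∀ z, splitForm K (2 * m + 1) ((bA R (2 * m + 1) K).equivFun x + z) = splitForm K (2 * m + 1) z :=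
    fun z => by
      obtain ⟨w, rfl⟩ := (bA R (2 * m + 1) K).equivFun.surjective z
      rw [← map_add, ← QA_split_apply, ← QA_split_apply, ← hL, QuadraticMap.comp_apply, QuadraticMap.comp_apply,
        map_add, hx, zero_add]
  generalize hv : (bA R (2 * m + 1) K).equivFun x = v at hs
  refine (bA R (2 * m + 1) K).equivFun.map_eq_zero_iff.1 (hv.trans ?_)
  have h0 := hs 0
  rw [add_zero, map_zero] at h0
  have hz : ∀ z, QuadraticMap.polar (splitForm K (2 * m + 1)) v z = 0 := fun z => by
    rw [QuadraticMap.polar, hs z, h0, sub_zero, sub_self]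
  have ha : ∀ i : Fin m, v ⟨2 * i + 1, by omega⟩ = 0 ∧ v ⟨2 * i + 2, by omega⟩ = 0 := fun i => by
    have e : ∀ a b : K, (∑ j : Fin m, (v ⟨2 * j + 1, by omega⟩ * (if j = i then b else 0) +
        (if j = i then a else 0) * v ⟨2 * j + 2, by omega⟩)) = 0 := fun a b => by
      have h1 := hz (fun k => if k.val = 2 * i + 1 then a else if k.val = 2 * i + 2 then b else 0)
      rw [QuadraticMap.polar, hsplit, hsplit, hsplit] at h1
      rw [Finset.sum_add_distrib]
      simp only [Pi.add_apply, add_mul, mul_add, Finset.sum_add_distrib, show ¬ (0 = 2 * (i : ℕ) + 1) by omega,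
        show ¬ (0 = 2 * (i : ℕ) + 2) by omega, if_false, mul_zero, zero_mul, add_zero,
        show ∀ j : Fin m, (2 * (j : ℕ) + 1 = 2 * (i : ℕ) + 1 ↔ j = i) from fun j => by rw [Fin.ext_iff]; omega,
        show ∀ j : Fin m, (2 * (j : ℕ) + 2 = 2 * (i : ℕ) + 1 ↔ False) from fun j => by simp; omega,
        show ∀ j : Fin m, (2 * (j : ℕ) + 1 = 2 * (i : ℕ) + 2 ↔ False) from fun j => by simp; omega,
        show ∀ j : Fin m, (2 * (j : ℕ) + 2 = 2 * (i : ℕ) + 2 ↔ j = i) from fun j => by rw [Fin.ext_iff]; omega,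
        if_false] at h1
      linear_combination h1
    have e1 := e 1 0
    have e2 := e 0 1
    simp at e1 e2
    exact ⟨e2, e1⟩
  have hv0 : v ⟨0, by omega⟩ = 0 := by
    rw [hsplit, Finset.sum_eq_zero (fun i _ => by rw [(ha i).1, zero_mul]), zero_add] at h0
    exact mul_self_eq_zero.1 h0
  funext k
  obtain ⟨k, hk⟩ := k
  rcases Nat.eq_zero_or_pos k with rfl | hk0
  · exact hv0
  · rcases Nat.even_or_odd k with ⟨l, hl⟩ | ⟨l, hl⟩
    · exact (congrArg v (Fin.ext (show k = 2 * (l - 1) + 2 by omega))).trans (ha ⟨l - 1, by omega⟩).2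
    · exact (congrArg v (Fin.ext (show k = 2 * l + 1 by omega))).trans (ha ⟨l, by omega⟩).1

/-- Lifting special isometries between two forms. -/
theorem lift_special₂ {B : Type*} [CommRing B] {I : Ideal B} (hI : I ^ 2 = ⊥) {m : ℕ} (hn : n = 2 * m + 1)
    {U V : Matrix (Fin n) (Fin n) B} (hUV : h U = h V) (hU : IsUnit (h U)) (H : Matrix (Fin n) (Fin n) B)
    (hH : ∀ s, aU (Hᵀ * U * H) s - aU V s ∈ I) (hd : H.det - 1 ∈ I) :
    ∃ X : Matrix (Fin n) (Fin n) B, (∀ i j, X i j ∈ I) ∧
      aU ((H * (1 + X))ᵀ * U * (H * (1 + X))) = aU V ∧ (H * (1 + X)).det = 1 := by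
  set W := Hᵀ * U * H with hW
  have hdd : (H.det - 1) * (H.det - 1) = 0 := by
    have := Ideal.mul_mem_mul hd hd
    rwa [← pow_two, hI, Ideal.mem_bot] at this
  have hWu : IsUnit (h W) := by
    rw [hW, h_transform ⟨m, hn⟩]
    exact ((IsUnit.of_mul_eq_one (2 - H.det) (by linear_combination -hdd)).pow 2).mul hU
  set T := tang W ((m : B) + 1)
  obtain ⟨σ, hσ⟩ := Module.projective_lifting_property T LinearMap.id (tang_surjective hn W hWu)
  set y : (Sym2 (Fin n) → B) × B := (aU V - aU W, 1 - H.det)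
  have hy : y ∈ I • (⊤ : Submodule B ((Sym2 (Fin n) → B) × B)) := by
    have e : y = ∑ s, y.1 s • ((Pi.single s (1 : B), (0 : B)) : (Sym2 (Fin n) → B) × B) +
        y.2 • ((0 : Sym2 (Fin n) → B), (1 : B)) := by
      refine Prod.ext ?_ ?_
      · funext t; simp [Prod.fst_sum, Finset.sum_apply, Pi.single_apply]
      · simp [Prod.snd_sum]
    rw [e]
    refine add_mem (Submodule.sum_mem _ fun s _ => Submodule.smul_mem_smul ?_ trivial)
      (Submodule.smul_mem_smul ?_ trivial)
    · show aU V s - aU W s ∈ I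
      rw [← neg_sub]; exact neg_mem (hH s)
    · show 1 - H.det ∈ I
      rw [← neg_sub]; exact neg_mem hd
  have hσy : (∀ i j, (σ y).1 i j ∈ I) ∧ (σ y).2 ∈ I := by
    refine Submodule.smul_induction_on (p := fun z => (∀ i j, (σ z).1 i j ∈ I) ∧ (σ z).2 ∈ I) hy ?_ ?_
    · intro r hr z _
      rw [map_smul]; exact ⟨fun i j => Ideal.mul_mem_right _ I hr, Ideal.mul_mem_right _ I hr⟩
    · intro a b ha hb
      rw [map_add]; exact ⟨fun i j => add_mem (ha.1 i j) (hb.1 i j), add_mem ha.2 hb.2⟩
  obtain ⟨⟨X, c⟩, hXc⟩ : ∃ Xc, Xc = σ y := ⟨_, rfl⟩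
  rw [← hXc] at hσy
  have hTy : T (X, c) = y := by rw [hXc]; exact LinearMap.congr_fun hσ y
  have h1 : aU ((W + Wᵀ) * X) + c • aU W = aU V - aU W := congrArg Prod.fst hTy
  have h2 : X.trace + c * ((m : B) + 1) = 1 - H.det := congrArg Prod.snd hTy
  set H' := H * (1 + X)
  have hcW : c • aU W = c • aU V := funext fun s => by
    have := Ideal.mul_mem_mul hσy.2 (hH s)
    rw [← pow_two, hI, Ideal.mem_bot, mul_sub, sub_eq_zero] at this
    exact this
  have hscale : aU (H'ᵀ * U * H') = aU ((1 - c) • V) := by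
    have h3 := step hI W 1 X (fun s => by simp) hσy.1
    rw [Matrix.one_mul, Matrix.transpose_one, Matrix.one_mul, Matrix.mul_one] at h3
    have e : H'ᵀ * U * H' = (1 + X)ᵀ * W * (1 + X) := by
      simp only [H', W, Matrix.transpose_mul, Matrix.mul_assoc]
    rw [e, h3, aU_smul, sub_smul, one_smul, ← hcW, eq_sub_iff_add_eq, add_assoc, h1]
    abel
  have hdet : H'.det = 1 - c * ((m : B) + 1) := by
    rw [Matrix.det_mul, det_one_add hI X hσy.1]
    have h0 : (H.det - 1) * X.trace = 0 := by
      have := Ideal.mul_mem_mul hd (Ideal.sum_mem I fun i (_ : i ∈ Finset.univ) => hσy.1 i i)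
      rwa [← pow_two, hI, Ideal.mem_bot] at this
    linear_combination h0 + h2
  have hcc : c * c = 0 := by
    have := Ideal.mul_mem_mul hσy.2 hσy.2
    rwa [← pow_two, hI, Ideal.mem_bot] at this
  have hc0 : c = 0 := by
    have h3 := h_congr hscale
    rw [h_transform ⟨m, hn⟩, h_smul ⟨m, hn⟩, hdet, hUV] at h3
    have h4 := (hUV ▸ hU).mul_right_cancel h3
    rw [show (1 - c : B) = 1 + -c from sub_eq_add_neg 1 c, one_add_pow (by rw [neg_mul_neg, hcc]), hn] at h4
    push_cast at h4
    linear_combination ((m : B) + 1) ^ 2 * hcc - h4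
  refine ⟨X, hσy.1, ?_, by rw [hdet, hc0, zero_mul, sub_zero]⟩
  rw [hscale, hc0, sub_zero, one_smul]

/-- Semiregular forms of odd rank are fppf locally split. -/
theorem exists_fppf_split (m : ℕ) (Q : QuadraticForm R (Fin (2 * m + 1) → R))
    (hQ : QuadGrp.IsSemiregular (Pi.basisFun R (Fin (2 * m + 1))) (LinearEquiv.refl R R) Q) :
    ∃ (A : Type u) (_ : CommRing A) (_ : Algebra R A), Module.FaithfullyFlat R A ∧
      Algebra.FinitePresentation R A ∧ IsUnit (h (matU (splitForm R (2 * m + 1)))) ∧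
      Nonempty ((QA A Q).IsometryEquiv (QA A (splitForm R (2 * m + 1)))) := by
  classical
  have hn : Odd (2 * m + 1) := odd_two_mul_add_one m
  let S0 : QuadraticForm R (Fin (2 * m + 1) → R) := splitForm R (2 * m + 1)
  have hhU : IsUnit (h (matU Q)) := by
    rw [matU, ← halfDisc_eq _ Q (bilinLift_apply_self Q)]; exact hQ
  -- over algebraically closed fields
  have hfield : ∀ (K : Type u) [Field K] [IsAlgClosed K] [Algebra R K],
      ∃ L : Matrix (Fin (2 * m + 1)) (Fin (2 * m + 1)) K, L.det ≠ 0 ∧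
        aU (Lᵀ * (matU Q).map (algebraMap R K) * L) = aU ((matU S0).map (algebraMap R K)) := by
    intro K _ _ _
    obtain ⟨L, hL, hcomp⟩ := exists_iso_split m (QA K Q)
      (Odd.semiregular_QA (Pi.basisFun R (Fin (2 * m + 1))) hQ K)
    refine ⟨LinearMap.toMatrix (bA R _ K) (bA R _ K) L, ?_, ?_⟩
    · rw [LinearMap.det_toMatrix]
      exact fun h0 => LinearMap.bot_lt_ker_of_det_eq_zero h0 |>.ne' (LinearMap.ker_eq_bot.2 hL)
    · have := (comp_eq_iff Q S0 K L LinearMap.id).1 (by rw [hcomp]; rfl)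
      rwa [LinearMap.toMatrix_id, Matrix.transpose_one, Matrix.one_mul, Matrix.mul_one] at this
  have hh0 : IsUnit (h (matU S0)) := by
    by_contra hne
    obtain ⟨J, hJ, hmem⟩ := exists_max_ideal_of_mem_nonunits (mem_nonunits_iff.2 hne)
    letI := Ideal.Quotient.field J
    letI : Algebra R (AlgebraicClosure (R ⧸ J)) :=
      ((algebraMap (R ⧸ J) (AlgebraicClosure (R ⧸ J))).comp (Ideal.Quotient.mk J)).toAlgebra
    obtain ⟨L, hdet, hL⟩ := hfield (AlgebraicClosure (R ⧸ J))
    have h1 := h_congr hL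
    rw [h_transform hn, ← map_h, ← map_h] at h1
    refine mul_ne_zero (pow_ne_zero 2 hdet) ((hhU.map _).ne_zero) (h1.trans ?_)
    show algebraMap (R ⧸ J) _ (Ideal.Quotient.mk J _) = 0
    rw [Ideal.Quotient.eq_zero_iff_mem.2 hmem, map_zero]
  obtain ⟨h0, hh0'⟩ := id hh0
  let p : Polynomial R := Polynomial.X ^ 2 - Polynomial.C (h (matU Q) * ↑h0⁻¹)
  have hp : p.Monic := Polynomial.monic_X_pow_sub_C _ two_ne_zero
  let R1 : Type u := AdjoinRoot p
  let t : R1 := AdjoinRoot.root p
  have ht : t * t = algebraMap R R1 (h (matU Q) * ↑h0⁻¹) := by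
    have h1 := AdjoinRoot.eval₂_root p
    simp only [p, Polynomial.eval₂_sub, Polynomial.eval₂_pow, Polynomial.eval₂_X, Polynomial.eval₂_C,
      sub_eq_zero] at h1
    exact (pow_two t).symm.trans h1
  let dv : Fin (2 * m + 1) → R1 := fun i => if i = 0 then t else 1
  let V : Matrix (Fin (2 * m + 1)) (Fin (2 * m + 1)) R1 :=
    (Matrix.diagonal dv)ᵀ * (matU S0).map (algebraMap R R1) * Matrix.diagonal dv
  have hdv : (Matrix.diagonal dv).det = t := by simp [Matrix.det_diagonal, dv, Finset.prod_ite_eq']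
  have hV : h V = algebraMap R R1 (h (matU Q)) := by
    rw [h_transform hn, hdv, pow_two, ht, ← map_h, ← map_mul, ← hh0', mul_assoc, Units.inv_mul, mul_one]
  let U : Matrix (Fin (2 * m + 1)) (Fin (2 * m + 1)) R1 := (matU Q).map (algebraMap R R1)
  let E : Option (Sym2 (Fin (2 * m + 1))) → MvPolynomial (Fin (2 * m + 1) × Fin (2 * m + 1)) R1 := fun o => o.elim
    ((gen R1 (2 * m + 1)).det - 1) fun s =>
      aU ((gen R1 _)ᵀ * U.map MvPolynomial.C * gen R1 _) s - MvPolynomial.C (aU V s)
  have hE : ∀ {C : Type u} [CommRing C] [Algebra R1 C] (H : Matrix (Fin (2 * m + 1)) (Fin (2 * m + 1)) C),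
      IsSol E H ↔ aU (Hᵀ * U.map (algebraMap R1 C) * H) = aU (V.map (algebraMap R1 C)) ∧ H.det = 1 := by
    intro C _ _ H
    have e1 : (gen R1 (2 * m + 1)).map (evM H).toRingHom = H := by ext i j; simp [gen, evM]
    have ed : evM H (E none) = H.det - 1 := by
      show evM H ((gen R1 (2 * m + 1)).det - 1) = _
      rw [map_sub, map_one, AlgHom.map_det]
      exact congrArg (fun M => Matrix.det M - 1) e1
    have es : ∀ s, evM H (E (some s)) = aU (Hᵀ * U.map (algebraMap R1 C) * H) s - aU (V.map (algebraMap R1 C)) s :=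
      fun s => by
        show evM H (aU ((gen R1 _)ᵀ * U.map MvPolynomial.C * gen R1 _) s - MvPolynomial.C (aU V s)) = _
        rw [map_sub]
        congr 1
        · refine (aU_map (evM H).toRingHom _ s).trans ?_
          congr 1
          rw [Matrix.map_mul, Matrix.map_mul, Matrix.transpose_map, Matrix.map_map, e1]
          congr 2
          ext i j
          simp [evM]
        · rw [← aU_map]; simp [evM]
    refine ⟨fun hh => ⟨funext fun s => sub_eq_zero.1 (es s ▸ hh (some s)), sub_eq_zero.1 (ed ▸ hh none)⟩,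
      fun hh o => ?_⟩
    cases o with
    | none => exact ed.trans (sub_eq_zero.2 hh.2)
    | some s => exact (es s).trans (sub_eq_zero.2 (congrFun hh.1 s))
  haveI : Module.Free R R1 := hp.free_adjoinRoot
  haveI : Algebra.FormallySmooth R1 (coordRing E) := formallySmooth_of_lift E fun B _ _ I hI H hH => by
    choose H' hH' using fun i j => Ideal.Quotient.mk_surjective (H i j)
    have hmap : (Matrix.of H').map (Ideal.Quotient.mk I) = H := by ext i j; exact hH' i j
    obtain ⟨h1, h2⟩ := (hE H).1 hH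
    have hdef : ∀ s, aU ((Matrix.of H')ᵀ * U.map (algebraMap R1 B) * Matrix.of H') s -
        aU (V.map (algebraMap R1 B)) s ∈ I := fun s => Ideal.Quotient.eq_zero_iff_mem.1 (by
      rw [map_sub, aU_map, aU_map, Matrix.map_mul, Matrix.map_mul, Matrix.transpose_map, hmap]
      have eU : (U.map (algebraMap R1 B)).map (Ideal.Quotient.mk I) = U.map (algebraMap R1 (B ⧸ I)) := by
        ext a b; rfl
      have eV : (V.map (algebraMap R1 B)).map (Ideal.Quotient.mk I) = V.map (algebraMap R1 (B ⧸ I)) := by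
        ext a b; rfl
      rw [eU, eV, h1, sub_self])
    obtain ⟨X, hX, hsol, hdet⟩ := lift_special₂ hI rfl
      (U := U.map (algebraMap R1 B)) (V := V.map (algebraMap R1 B))
      (by rw [← map_h, ← map_h, ← map_h, hV]) (by rw [← map_h, ← map_h]; exact (hhU.map _).map _)
      (.of H') hdef
      (Ideal.Quotient.eq_zero_iff_mem.1 (by
        rw [map_sub, map_one, RingHom.map_det, RingHom.mapMatrix_apply, hmap, h2, sub_self]))
    exact ⟨_, (hE _).2 ⟨hsol, hdet⟩, (map_one_add hX).trans hmap⟩
  haveI : Algebra.FinitePresentation R1 (coordRing E) := Rep.finitePresentation E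
  haveI : Algebra.Smooth R1 (coordRing E) := ⟨inferInstance, inferInstance⟩
  haveI : Module.Flat R (coordRing E) := Module.Flat.trans R R1 (coordRing E)
  have hff : Module.FaithfullyFlat R (coordRing E) := by
    refine Module.FaithfullyFlat.of_comap_surjective fun P => ?_
    let K := AlgebraicClosure P.asIdeal.ResidueField
    letI : Algebra R K := ((algebraMap P.asIdeal.ResidueField K).comp (algebraMap R P.asIdeal.ResidueField)).toAlgebra
    obtain ⟨L, hdet, hL⟩ := hfield K
    obtain ⟨s, hs⟩ := IsAlgClosed.exists_eq_mul_self (algebraMap R K (h (matU Q) * ↑h0⁻¹))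
    let φ : R1 →+* K := AdjoinRoot.lift (algebraMap R K) s (by simp [p, pow_two, ← hs])
    letI : Algebra R1 K := φ.toAlgebra
    have hts : algebraMap R1 K t = s := AdjoinRoot.lift_root _
    have hmapR : ∀ r, algebraMap R1 K (algebraMap R R1 r) = algebraMap R K r := fun r => AdjoinRoot.lift_of _
    have hdiag : (Matrix.diagonal dv).map (algebraMap R1 K) =
        Matrix.diagonal fun i : Fin (2 * m + 1) => if i = 0 then s else 1 := by
      rw [Matrix.diagonal_map (map_zero _)]
      congr 1
      funext i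
      simp only [dv, Function.comp_apply]
      split_ifs
      · exact hts
      · exact map_one _
    have hd : ∀ e : K, e * e = 1 → aU ((Matrix.diagonal fun i : Fin (2 * m + 1) => if i = 0 then e else 1)ᵀ *
        (matU S0).map (algebraMap R K) * Matrix.diagonal fun i : Fin (2 * m + 1) => if i = 0 then e else 1) =
        aU ((matU S0).map (algebraMap R K)) := fun e he => by
      let f := Matrix.toLin (bA R (2 * m + 1) K) (bA R (2 * m + 1) K)
        (Matrix.diagonal fun i : Fin (2 * m + 1) => if i = 0 then e else 1)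
      have := (comp_eq_iff S0 S0 K f LinearMap.id).1 (QuadraticMap.ext fun x => ?_)
      · rwa [LinearMap.toMatrix_toLin, LinearMap.toMatrix_id, Matrix.transpose_one, Matrix.one_mul,
          Matrix.mul_one] at this
      rw [QuadraticMap.comp_apply, QuadraticMap.comp_apply,
        LinearMap.id_apply, QA_split_apply, QA_split_apply]
      have ef : ∀ k, (bA R (2 * m + 1) K).equivFun (f x) k =
          (if k = 0 then e else 1) * (bA R (2 * m + 1) K).equivFun x k := fun k => by
        simp only [Module.Basis.equivFun_apply]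
        rw [← LinearMap.toMatrix_mulVec_repr (bA R (2 * m + 1) K) (bA R (2 * m + 1) K) f x,
          LinearMap.toMatrix_toLin, Matrix.mulVec_diagonal]
      simp only [QuadGrp.splitForm, QuadraticMap.add_apply, QuadraticMap.sum_apply, QuadraticMap.linMulLin_apply,
        LinearMap.proj_apply, dif_pos (show (2 * m + 1) % 2 = 1 by omega), QuadraticMap.comp_apply,
        QuadraticMap.sq_apply, ef]
      refine congrArg₂ (· + ·) (Finset.sum_congr rfl fun i _ => ?_) ?_
      · rw [if_neg, if_neg, one_mul, one_mul] <;> simp [Fin.ext_iff]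
      · simp only [Fin.mk_zero, if_pos]
        rw [mul_mul_mul_comm, he, one_mul]
    obtain ⟨e, he, hed⟩ : ∃ e : K, e * e = 1 ∧ L.det * e * s = 1 := by
      have h1 := h_congr hL
      rw [h_transform hn, ← map_h, ← map_h, ← hh0'] at h1
      have h2 : (L.det * s) ^ 2 = 1 := by
        have h3 : algebraMap R K (↑h0 : R) * algebraMap R K (↑h0⁻¹ : R) = 1 := by
          rw [← map_mul, h0.mul_inv, map_one]
        rw [map_mul] at hs
        linear_combination algebraMap R K (↑h0⁻¹ : R) * h1 + h3 - L.det ^ 2 * hs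
      rcases sq_eq_one_iff.1 h2 with h2 | h2
      · exact ⟨1, one_mul 1, by rwa [mul_one]⟩
      · exact ⟨-1, neg_one_mul _ |>.trans (neg_neg 1), by linear_combination -h2⟩
    let De := Matrix.diagonal fun i : Fin (2 * m + 1) => if i = 0 then e else 1
    let Ds := Matrix.diagonal fun i : Fin (2 * m + 1) => if i = 0 then s else 1
    let f1 := Matrix.toLin (bA R (2 * m + 1) K) (bA R (2 * m + 1) K) (L * De)
    have hc : (QA K Q).comp f1 = QA K S0 := by
      have := (comp_eq_iff Q S0 K f1 LinearMap.id).2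
      refine (this ?_).trans (QuadraticMap.ext fun _ => rfl)
      rw [LinearMap.toMatrix_toLin, LinearMap.toMatrix_id, Matrix.transpose_one, Matrix.one_mul, Matrix.mul_one,
        ← hd e he]
      let g := Matrix.toLin (bA R (2 * m + 1) K) (bA R (2 * m + 1) K) De
      have hLg := (comp_eq_iff Q S0 K (Matrix.toLin (bA R _ K) (bA R _ K) L) LinearMap.id).2 (by
        rw [LinearMap.toMatrix_toLin, LinearMap.toMatrix_id, Matrix.transpose_one, Matrix.one_mul, Matrix.mul_one]
        exact hL)
      have h4 := (comp_eq_iff Q S0 K ((Matrix.toLin (bA R _ K) (bA R _ K) L).comp g) g).1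
        (QuadraticMap.ext fun x => congrArg (fun q => q (g x)) hLg)
      rwa [← Matrix.toLin_mul, LinearMap.toMatrix_toLin, LinearMap.toMatrix_toLin] at h4
    have hsol : IsSol E (L * De * Ds) := by
      rw [hE]
      refine ⟨?_, ?_⟩
      · have e1 : U.map (algebraMap R1 K) = (matU Q).map (algebraMap R K) := by
          ext i j; exact hmapR _
        have e2 : V.map (algebraMap R1 K) = Dsᵀ * (matU S0).map (algebraMap R K) * Ds := by
          rw [Matrix.map_mul, Matrix.map_mul, Matrix.transpose_map, hdiag, Matrix.map_map]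
          congr 2
          ext i j; exact hmapR _
        rw [e1, e2]
        let g := Matrix.toLin (bA R (2 * m + 1) K) (bA R (2 * m + 1) K) Ds
        have h4 := (comp_eq_iff Q S0 K (f1.comp g) g).1 (QuadraticMap.ext fun x => congrArg (fun q => q (g x)) hc)
        rwa [← Matrix.toLin_mul, LinearMap.toMatrix_toLin, LinearMap.toMatrix_toLin] at h4
      · simp only [De, Ds, Matrix.det_mul, Matrix.det_diagonal, Finset.prod_ite_eq', Finset.mem_univ, if_true]
        exact hed
    let f : coordRing E →ₐ[R1] K := (solEquiv E K).symm ⟨_, hsol⟩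
    refine ⟨⟨RingHom.ker f.toRingHom, RingHom.ker_isPrime _⟩, PrimeSpectrum.ext ?_⟩
    show (RingHom.ker f.toRingHom).comap (algebraMap R (coordRing E)) = P.asIdeal
    rw [RingHom.comap_ker]
    have e : f.toRingHom.comp (algebraMap R (coordRing E)) = algebraMap R K := RingHom.ext fun r => by
      rw [RingHom.comp_apply, IsScalarTower.algebraMap_apply R R1 (coordRing E)]
      exact (f.commutes _).trans (hmapR r)
    rw [e, RingHom.algebraMap_toAlgebra, RingHom.ker_comp_of_injective _ (RingHom.injective _),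
      Ideal.ker_algebraMap_residueField]
  let H : Matrix (Fin (2 * m + 1)) (Fin (2 * m + 1)) (coordRing E) :=
    (solEquiv E (coordRing E) (AlgHom.id R1 _)).1
  obtain ⟨hH1, hH2⟩ := (hE H).1 (solEquiv E (coordRing E) (AlgHom.id R1 _)).2
  let D : Matrix (Fin (2 * m + 1)) (Fin (2 * m + 1)) (coordRing E) := (Matrix.diagonal dv).map (algebraMap R1 _)
  have htu : IsUnit t := isUnit_of_mul_isUnit_left (ht ▸ (hhU.mul h0⁻¹.isUnit).map _)
  have hDu : IsUnit D.det := by
    rw [show D.det = algebraMap R1 _ (Matrix.diagonal dv).det from (RingHom.map_det _ _).symm, hdv]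
    exact htu.map _
  let fH := Matrix.toLin (bA R (2 * m + 1) (coordRing E)) (bA R _ (coordRing E)) H
  let fD := Matrix.toLin (bA R (2 * m + 1) (coordRing E)) (bA R _ (coordRing E)) D
  have hc : (QA (coordRing E) Q).comp fH = (QA (coordRing E) S0).comp fD := by
    refine (comp_eq_iff Q S0 _ fH fD).2 ?_
    rw [LinearMap.toMatrix_toLin, LinearMap.toMatrix_toLin]
    simp only [U, V, Matrix.map_mul, Matrix.transpose_map, Matrix.map_map, ← RingHom.coe_comp,
      ← IsScalarTower.algebraMap_eq] at hH1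
    exact hH1
  let eD := LinearMap.equivOfIsUnitDet (f := fD) (by rwa [LinearMap.det_toLin])
  let eH := LinearMap.equivOfIsUnitDet (f := fH) (by rw [LinearMap.det_toLin, hH2]; exact isUnit_one)
  refine ⟨coordRing E, inferInstance, inferInstance, hff, Algebra.FinitePresentation.trans R R1 _, hh0,
    ⟨{ toLinearEquiv := eH.symm.trans eD, map_app' := fun x => ?_ }⟩⟩
  show QA _ S0 (eD (eH.symm x)) = QA _ Q x
  conv_rhs => rw [← eH.apply_symm_apply x]
  have h5 := congrArg (fun q => q (eH.symm x)) hc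
  simp only [QuadraticMap.comp_apply] at h5
  rw [show (eD (eH.symm x)) = fD (eH.symm x) from LinearMap.equivOfIsUnitDet_apply _ _,
    show (eH (eH.symm x)) = fH (eH.symm x) from LinearMap.equivOfIsUnitDet_apply _ _]
  exact h5.symm

end Groth.Agent.Lib.QuadGrp99.SplitFppf
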