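import Groth.Agent.Lib.QuadGrp99.Rep
import Mathlib.RingTheory.Nakayama
import Mathlib.RingTheory.Polynomial.Quotient

/-!
# Smoothness of the orthogonal groups
-/

noncomputable section

universe u

open CategoryTheory AlgebraicGeometry
open scoped Matrix TensorProduct

namespace Groth.Agent.Lib.QuadGrp99.OrthSmooth

open QuadGrp HalfDisc Rep

variable {n : ℕ}

section Alg

variable {B : Type*} [CommRing B]

theorem aU_map {C : Type*} [CommRing C] (f : B →+* C) (U : Matrix (Fin n) (Fin n) B) (s : Sym2 (Fin n)) :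
    f (aU U s) = aU (U.map f) s := by
  induction s using Sym2.ind with
  | h i j => rw [aU_mk, aU_mk]; split <;> simp

theorem aU_add (U V : Matrix (Fin n) (Fin n) B) : aU (U + V) = aU U + aU V := by
  funext s
  induction s using Sym2.ind with
  | h i j =>
    rw [Pi.add_apply, aU_mk, aU_mk, aU_mk]
    split <;> simp [add_add_add_comm]

theorem aU_smul (c : B) (U : Matrix (Fin n) (Fin n) B) : aU (c • U) = c • aU U := by
  funext s
  induction s using Sym2.ind with
  | h i j =>
    rw [Pi.smul_apply, aU_mk, aU_mk]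
    split <;> simp [mul_add]

/-- Upper triangular representative. -/
def upper (d : Sym2 (Fin n) → B) : Matrix (Fin n) (Fin n) B := .of fun i j => if i ≤ j then d s(i, j) else 0

theorem aU_upper (d : Sym2 (Fin n) → B) : aU (upper d) = d := by
  funext s
  induction s using Sym2.ind with
  | h i j =>
    rw [aU_mk]
    split_ifs with h
    · subst h; simp [upper]
    · rcases lt_or_gt_of_ne h with hl | hl
      · simp [upper, hl.le, not_le.2 hl]
      · simp [upper, hl.le, not_le.2 hl, Sym2.eq_swap]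

theorem upper_mem {I : Ideal B} {d : Sym2 (Fin n) → B} (hd : ∀ s, d s ∈ I) (i j : Fin n) : upper d i j ∈ I := by
  simp only [upper, Matrix.of_apply]
  split
  · exact hd _
  · exact zero_mem _

/-- `XᵀV + VX` and `(V + Vᵀ)X` have the same coefficients. -/
theorem aU_deriv (V X : Matrix (Fin n) (Fin n) B) : aU (Xᵀ * V + V * X) = aU ((V + Vᵀ) * X) := by
  have e : Xᵀ * V = (Vᵀ * X)ᵀ := by rw [Matrix.transpose_mul, Matrix.transpose_transpose]
  funext s
  induction s using Sym2.ind with
  | h i j =>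
    rw [aU_mk, aU_mk, e, Matrix.add_mul]
    split <;> simp only [Matrix.add_apply, Matrix.transpose_apply]
    · exact add_comm _ _
    · abel

theorem transpose_eq_of_aU {U V : Matrix (Fin n) (Fin n) B} (h : aU U = aU V) : U + Uᵀ = V + Vᵀ := by
  ext i j
  have := congrFun h s(i, j)
  rw [aU_mk, aU_mk] at this
  simp only [Matrix.add_apply, Matrix.transpose_apply]
  split_ifs at this with hij
  · subst hij; rw [this]
  · exact this

theorem mul_eq_zero_of_mem {I : Ideal B} (hI : I ^ 2 = ⊥) {X Y : Matrix (Fin n) (Fin n) B} (hX : ∀ i j, X i j ∈ I)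
    (hY : ∀ i j, Y i j ∈ I) : X * Y = 0 := by
  ext i j
  rw [Matrix.mul_apply, Matrix.zero_apply]
  refine Finset.sum_eq_zero fun k _ => ?_
  have := Ideal.mul_mem_mul (hX i k) (hY k j)
  rwa [← pow_two, hI, Ideal.mem_bot] at this

/-- One Newton step. -/
theorem step {I : Ideal B} (hI : I ^ 2 = ⊥) (U H X : Matrix (Fin n) (Fin n) B)
    (hH : ∀ s, aU (Hᵀ * U * H) s - aU U s ∈ I) (hX : ∀ i j, X i j ∈ I) :
    aU ((H * (1 + X))ᵀ * U * (H * (1 + X))) = aU (Hᵀ * U * H) + aU ((U + Uᵀ) * X) := by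
  set V := Hᵀ * U * H
  have hXt : ∀ i j, Xᵀ i j ∈ I := fun i j => hX j i
  have hVX : ∀ i j, (V * X) i j ∈ I := fun i j => by
    rw [Matrix.mul_apply]; exact Ideal.sum_mem _ fun k _ => Ideal.mul_mem_left _ _ (hX k j)
  have e : (H * (1 + X))ᵀ * U * (H * (1 + X)) = V + (Xᵀ * V + V * X) := by
    have h0 : Xᵀ * (V * X) = 0 := mul_eq_zero_of_mem hI hXt hVX
    calc (H * (1 + X))ᵀ * U * (H * (1 + X)) = (1 + Xᵀ) * V * (1 + X) := by
          rw [Matrix.transpose_mul, Matrix.transpose_add, Matrix.transpose_one]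
          simp only [V, Matrix.mul_assoc]
      _ = V + (Xᵀ * V + V * X) + Xᵀ * (V * X) := by
          simp only [Matrix.add_mul, Matrix.mul_add, Matrix.one_mul, Matrix.mul_one, Matrix.mul_assoc]
          abel
      _ = _ := by rw [h0, add_zero]
  rw [e, aU_add, aU_deriv]
  congr 2
  have hd : ∀ i j, ((V + Vᵀ) - (U + Uᵀ)) i j ∈ I := fun i j => by
    simp only [Matrix.sub_apply, Matrix.add_apply, Matrix.transpose_apply]
    have h := hH s(i, j)
    rw [aU_mk, aU_mk] at h
    split_ifs at h with hij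
    · subst hij
      rw [show V i i + V i i - (U i i + U i i) = (V i i - U i i) + (V i i - U i i) by ring]
      exact add_mem h h
    · exact h
  have h1 := mul_eq_zero_of_mem hI hd hX
  rw [Matrix.sub_mul, sub_eq_zero] at h1
  exact h1

theorem h_congr {U V : Matrix (Fin n) (Fin n) B} (e : aU U = aU V) : h U = h V := by rw [h, h, e]

theorem h_smul (hn : Odd n) (c : B) (U : Matrix (Fin n) (Fin n) B) : h (c • U) = c ^ n * h U := by
  let f : MvPolynomial ((Fin n × Fin n) ⊕ PUnit.{1}) ℤ →+* B :=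
    MvPolynomial.eval₂Hom (Int.castRingHom B) (Sum.elim (fun p => U p.1 p.2) fun _ => c)
  let U0 : Matrix (Fin n) (Fin n) (MvPolynomial ((Fin n × Fin n) ⊕ PUnit.{1}) ℤ) :=
    .of fun i j => MvPolynomial.X (Sum.inl (i, j))
  have huniv : h ((MvPolynomial.X (Sum.inr PUnit.unit) : MvPolynomial ((Fin n × Fin n) ⊕ PUnit.{1}) ℤ) • U0) =
      MvPolynomial.X (Sum.inr PUnit.unit) ^ n * h U0 := by
    refine mul_left_cancel₀ (fun h2 : (2 : MvPolynomial ((Fin n × Fin n) ⊕ PUnit.{1}) ℤ) = 0 => by
      simpa [map_ofNat] using congrArg MvPolynomial.constantCoeff h2) ?_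
    rw [two_mul_h hn, mul_left_comm, two_mul_h hn, Matrix.transpose_smul, ← smul_add, Matrix.det_smul, Fintype.card_fin]
  have hU : U0.map f = U := by ext i j; simp [U0, f]
  have h1 := congrArg f huniv
  rw [map_mul, map_pow, map_h, map_h, hU] at h1
  have hc : f (MvPolynomial.X (Sum.inr PUnit.unit)) = c := by simp [f]
  rw [hc] at h1
  refine Eq.trans (congrArg h ?_) h1
  ext i j
  simp [U0, f]

theorem det_sq_eq_one_of_odd (hn : Odd n) {U : Matrix (Fin n) (Fin n) B} (hU : IsUnit (h U))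
    {H : Matrix (Fin n) (Fin n) B} (hH : aU (Hᵀ * U * H) = aU U) : H.det ^ 2 = 1 := by
  have h1 := h_congr hH
  rw [h_transform hn] at h1
  exact hU.mul_right_cancel (by rw [one_mul]; exact h1)

theorem det_sq_eq_one_of_det {U : Matrix (Fin n) (Fin n) B} (hU : IsUnit (U + Uᵀ).det)
    {H : Matrix (Fin n) (Fin n) B} (hH : aU (Hᵀ * U * H) = aU U) : H.det ^ 2 = 1 := by
  have h1 := congrArg Matrix.det (transpose_eq_of_aU hH)
  have e : Hᵀ * U * H + (Hᵀ * U * H)ᵀ = Hᵀ * (U + Uᵀ) * H := by
    rw [Matrix.transpose_mul, Matrix.transpose_mul, Matrix.transpose_transpose, Matrix.mul_add, Matrix.add_mul,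
      ← Matrix.mul_assoc]
  rw [e, Matrix.det_mul, Matrix.det_mul, Matrix.det_transpose] at h1
  refine hU.mul_right_cancel ?_
  rw [one_mul]
  linear_combination h1

theorem lift_of_isUnit {I : Ideal B} (hI : I ^ 2 = ⊥) {U : Matrix (Fin n) (Fin n) B} (hP : IsUnit (U + Uᵀ).det)
    (H : Matrix (Fin n) (Fin n) B) (hH : ∀ s, aU (Hᵀ * U * H) s - aU U s ∈ I) :
    ∃ X : Matrix (Fin n) (Fin n) B, (∀ i j, X i j ∈ I) ∧
      aU ((H * (1 + X))ᵀ * U * (H * (1 + X))) = aU U := by
  set D := upper (fun s => aU U s - aU (Hᵀ * U * H) s)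
  have hD : ∀ i j, D i j ∈ I := upper_mem fun s => by rw [← neg_sub]; exact neg_mem (hH s)
  refine ⟨(U + Uᵀ)⁻¹ * D, fun i j => ?_, ?_⟩
  · rw [Matrix.mul_apply]; exact Ideal.sum_mem _ fun k _ => Ideal.mul_mem_left _ _ (hD k j)
  rw [step hI U H _ hH fun i j => ?_, ← Matrix.mul_assoc, Matrix.mul_nonsing_inv _ hP, Matrix.one_mul, aU_upper]
  · funext s; simp
  · rw [Matrix.mul_apply]; exact Ideal.sum_mem _ fun k _ => Ideal.mul_mem_left _ _ (hD k j)

/-! ### The tangent map of `SO` in odd rank -/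

/-- The infinitesimal equations of `SO`, completed by one vector. -/
def tang (U : Matrix (Fin n) (Fin n) B) (a : B) : Matrix (Fin n) (Fin n) B × B →ₗ[B] (Sym2 (Fin n) → B) × B where
  toFun Xc := (aU ((U + Uᵀ) * Xc.1) + Xc.2 • aU U, Xc.1.trace + Xc.2 * a)
  map_add' x y := by
    refine Prod.ext ?_ ?_
    · funext s
      simp only [Prod.fst_add, Prod.snd_add, Matrix.mul_add, aU_add, Pi.add_apply, add_smul]
      abel
    · simp only [Prod.fst_add, Prod.snd_add, Matrix.trace_add, add_mul]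
      abel
  map_smul' r x := by
    refine Prod.ext ?_ ?_
    · simp only [Prod.smul_fst, Prod.smul_snd, Matrix.mul_smul, aU_smul, RingHom.id_apply, smul_add, smul_eq_mul,
        mul_smul]
    · simp only [Prod.smul_fst, Prod.smul_snd, Matrix.trace_smul, RingHom.id_apply, smul_eq_mul]
      ring

theorem tang_map {C : Type*} [CommRing C] (f : B →+* C) (U : Matrix (Fin n) (Fin n) B) (a : B)
    (X : Matrix (Fin n) (Fin n) B) (c : B) :
    (fun s => f ((tang U a (X, c)).1 s)) = (tang (U.map f) (f a) (X.map f, f c)).1 ∧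
      f (tang U a (X, c)).2 = (tang (U.map f) (f a) (X.map f, f c)).2 := by
  refine ⟨funext fun s => ?_, ?_⟩
  · simp only [tang, LinearMap.coe_mk, AddHom.coe_mk, Pi.add_apply, Pi.smul_apply, smul_eq_mul, map_add, map_mul,
      aU_map, Matrix.map_mul, Matrix.map_add f (map_add f), Matrix.transpose_map]
  · simp [tang, Matrix.trace, map_sum]

end Alg

section Field

variable {k : Type*} [Field k]

theorem tang_surjective_field (hn : Odd n) (U : Matrix (Fin n) (Fin n) k) (hU : h U ≠ 0) (a : k)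
    (ha : a + a = (n : k) + 1) : Function.Surjective (tang U a) := by
  set P := U + Uᵀ with hPdef
  have hTX : ∀ X, tang U a (X, 0) = (aU (P * X), X.trace) := fun X => by simp [tang, P]
  suffices hd : (∀ d, ∃ t, (d, t) ∈ LinearMap.range (tang U a)) ∧
      ((0 : Sym2 (Fin n) → k), (1 : k)) ∈ LinearMap.range (tang U a) by
    rintro ⟨d, t⟩
    obtain ⟨t', ht'⟩ := hd.1 d
    have : ((d, t) : (Sym2 (Fin n) → k) × k) = (d, t') + (t - t') • ((0 : Sym2 (Fin n) → k), (1 : k)) := by simp
    rw [this]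
    exact add_mem ht' (Submodule.smul_mem _ _ hd.2)
  by_cases h2 : (2 : k) = 0
  · obtain ⟨r, hr0, hr⟩ := exists_ker_of_two_eq_zero hn h2 U
    obtain ⟨p, hp⟩ := Function.ne_iff.1 hr0
    obtain ⟨hrad, v, hv⟩ := (h_ne_zero_iff hn U).1 hU
    have hQr : r ⬝ᵥ (U *ᵥ r) ≠ 0 := fun hh => hr0 (hrad r hr hh)
    have hrP : ∀ z, r ⬝ᵥ (P *ᵥ z) = 0 := fun z => by
      have hPs : Pᵀ = P := by simp [P, Matrix.transpose_add, add_comm]
      rw [Matrix.dotProduct_mulVec, ← hPs, Matrix.vecMul_transpose, hr, zero_dotProduct]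
    refine ⟨fun d => ?_, ?_⟩
    · set D := upper d
      let c := r ⬝ᵥ (D *ᵥ r) / r ⬝ᵥ (U *ᵥ r)
      let w : Fin n → k := r ᵥ* (D - c • U)
      have hwr : w ⬝ᵥ r = 0 := by
        rw [← Matrix.dotProduct_mulVec, Matrix.sub_mulVec, dotProduct_sub, Matrix.smul_mulVec, dotProduct_smul,
          smul_eq_mul, div_mul_cancel₀ _ hQr, sub_self]
      let Z : Matrix (Fin n) (Fin n) k := .of fun i j =>
        (r p)⁻¹ * (w i * (if j = p then 1 else 0) - (if i = p then 1 else 0) * w j)
      have hZw : r ᵥ* Z = -w := by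
        funext j
        rw [dotProduct] at hwr
        simp only [Matrix.vecMul, dotProduct, Z, Matrix.of_apply, Pi.neg_apply]
        rcases eq_or_ne j p with rfl | hj
        · simp only [if_pos rfl, mul_one, mul_sub, Finset.sum_sub_distrib, ite_mul, one_mul, zero_mul, mul_ite,
            mul_zero, Finset.sum_ite_eq', Finset.mem_univ, if_true]
          rw [Finset.sum_congr rfl fun i _ => show r i * ((r j)⁻¹ * w i) = (r j)⁻¹ * (w i * r i) by ring,
            ← Finset.mul_sum, hwr, mul_zero, zero_sub, ← mul_assoc, mul_inv_cancel₀ hp, one_mul]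
        · simp only [if_neg hj, mul_zero, zero_sub, mul_neg, Finset.sum_neg_distrib, ite_mul, one_mul, zero_mul,
            mul_ite, Finset.sum_ite_eq', Finset.mem_univ, if_true]
          rw [← mul_assoc, mul_inv_cancel₀ hp, one_mul]
      have hY : r ᵥ* (D - c • U + Z) = 0 := by rw [Matrix.vecMul_add, hZw]; exact add_neg_cancel w
      let P' := P.updateRow p (Pi.single p 1)
      have hP' : IsUnit P'.det := by
        refine isUnit_iff_ne_zero.2 fun h0 => ?_
        obtain ⟨s, hs0, hs⟩ := Matrix.exists_mulVec_eq_zero_iff.2 h0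
        have hsp : s p = 0 := by simpa [P', Matrix.mulVec, dotProduct, Pi.single_apply] using congrFun hs p
        have hne : ∀ i, i ≠ p → (P *ᵥ s) i = 0 := fun i hi => by
          have := congrFun hs i
          rwa [Matrix.mulVec, show P' i = P i from Matrix.updateRow_ne hi] at this
        have hp0 : (P *ᵥ s) p = 0 := by
          have h1 := hrP s
          rw [dotProduct, Finset.sum_eq_single p (fun i _ hi => by rw [hne i hi, mul_zero]) (by simp)] at h1
          exact (mul_eq_zero.1 h1).resolve_left hp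
        obtain ⟨e1, he1⟩ := hv s (funext fun i => by
          rcases eq_or_ne i p with rfl | hi
          · exact hp0
          · exact hne i hi)
        obtain ⟨e2, he2⟩ := hv r hr
        have hvp : v p ≠ 0 := fun h0 => hp (by rw [he2]; simp [h0])
        have : e1 = 0 := by
          rw [he1] at hsp
          exact (mul_eq_zero.1 (by simpa using hsp : e1 * v p = 0)).resolve_right hvp
        exact hs0 (by rw [he1, this, zero_smul])
      let Y := D - c • U + Z
      let X := P'⁻¹ * Y.updateRow p 0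
      have hPX : P * X = Y := by
        have h1 : P' * X = Y.updateRow p 0 := by
          rw [← Matrix.mul_assoc, Matrix.mul_nonsing_inv _ hP', Matrix.one_mul]
        have hne : ∀ i j, i ≠ p → (P * X) i j = Y i j := fun i j hi => by
          have := congrFun (congrFun h1 i) j
          rw [Matrix.updateRow_ne hi, Matrix.mul_apply, show P' i = P i from Matrix.updateRow_ne hi] at this
          rw [Matrix.mul_apply]
          exact this
        ext i j
        rcases eq_or_ne i p with rfl | hi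
        · have h3 : ∑ l, r l * (P * X) l j = 0 := hrP (fun l => X l j)
          have h4 : ∑ l, r l * Y l j = 0 := congrFun hY j
          rw [Finset.sum_eq_add_sum_sdiff_singleton_of_mem (Finset.mem_univ i)] at h3 h4
          rw [Finset.sum_congr rfl fun l hl => by rw [hne l j (by simpa using hl)]] at h3
          exact mul_left_cancel₀ hp (by linear_combination h3 - h4)
        · exact hne i j hi
      refine ⟨X.trace + c * a, (X, c), Prod.ext ?_ rfl⟩
      show aU (P * X) + c • aU U = d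
      rw [hPX, ← aU_smul, ← aU_add]
      funext s
      induction s using Sym2.ind with
      | h i j =>
        rw [← congrFun (aU_upper d) s(i, j)]
        simp only [aU_mk, Y, Matrix.add_apply, Matrix.sub_apply, Matrix.smul_apply]
        split_ifs with hij
        · subst hij; simp [Z, D]
        · simp [Z, D]
          try ring
    · let X : Matrix (Fin n) (Fin n) k := .of fun i j => r i * if j = p then (r p)⁻¹ else 0
      refine ⟨(X, 0), ?_⟩
      rw [hTX]
      have hPX : P * X = 0 := by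
        ext i j
        simp only [Matrix.mul_apply, X, Matrix.of_apply, ← mul_assoc, ← Finset.sum_mul, Matrix.zero_apply]
        rw [show ∑ l, P i l * r l = 0 from congrFun hr i, zero_mul]
      refine Prod.ext ?_ ?_
      · rw [hPX]
        funext s
        induction s using Sym2.ind with
        | h i j =>
          show aU (0 : Matrix (Fin n) (Fin n) k) s(i, j) = 0
          rw [aU_mk]; split <;> simp
      · simp [X, Matrix.trace, mul_inv_cancel₀ hp]
  · have hP : IsUnit P.det := by
      rw [hPdef, ← two_mul_h hn]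
      exact isUnit_iff_ne_zero.2 (mul_ne_zero h2 hU)
    refine ⟨fun d => ⟨_, (P⁻¹ * upper d, 0), (hTX _).trans (by
      rw [← Matrix.mul_assoc, Matrix.mul_nonsing_inv _ hP, Matrix.one_mul, aU_upper])⟩, ?_⟩
    have e : ((0 : Sym2 (Fin n) → k), (1 : k)) = tang U a (-(1 : Matrix (Fin n) (Fin n) k), 2) := by
      simp only [tang, LinearMap.coe_mk, AddHom.coe_mk, Matrix.mul_neg, Matrix.mul_one, Matrix.trace_neg,
        Matrix.trace_one, Fintype.card_fin]
      refine Prod.ext ?_ ?_
      · funext s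
        induction s using Sym2.ind with
        | h i j =>
          show (0 : Sym2 (Fin n) → k) s(i, j) = (aU (-(U + Uᵀ)) + (2 : k) • aU U) s(i, j)
          rw [Pi.add_apply, Pi.smul_apply, smul_eq_mul, aU_mk, aU_mk, Pi.zero_apply]
          split_ifs with hij
          · subst hij; simp; ring
          · simp; ring
      · show (1 : k) = -(n : k) + 2 * a
        rw [two_mul, ha]; ring
    rw [e]
    exact LinearMap.mem_range_self _ _

end Field

theorem surjective_of_forall_maximal {B : Type*} [CommRing B] {M F : Type*} [AddCommGroup M] [Module B M]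
    [AddCommGroup F] [Module B F] [Module.Finite B F] (T : M →ₗ[B] F)
    (h : ∀ I : Ideal B, I.IsMaximal → ∀ y, ∃ x, y - T x ∈ I • (⊤ : Submodule B F)) : Function.Surjective T := by
  let N := LinearMap.range T
  have hI : ∀ I : Ideal B, I.IsMaximal → ∃ r : B, r ∉ I ∧ ∀ y : F, r • y ∈ N := by
    intro I hmax
    obtain ⟨r, hr1, hr⟩ := Submodule.exists_sub_one_mem_and_smul_eq_zero_of_fg_of_le_smul I
      (⊤ : Submodule B (F ⧸ N)) Module.Finite.fg_top (by
        intro z _
        obtain ⟨y, rfl⟩ := N.mkQ_surjective z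
        obtain ⟨x, hx⟩ := h I hmax y
        have h0 : N.mkQ (T x) = 0 := (Submodule.Quotient.mk_eq_zero N).2 (LinearMap.mem_range_self T x)
        have h1 := Submodule.mem_map_of_mem (f := N.mkQ) hx
        rw [map_sub, h0, sub_zero, Submodule.map_smul''] at h1
        exact Submodule.smul_mono le_rfl le_top h1)
    exact ⟨r, fun hrI => hmax.ne_top ((Ideal.eq_top_iff_one _).2 (by simpa using sub_mem hrI hr1)),
      fun y => (Submodule.Quotient.mk_eq_zero N).1 (hr (N.mkQ y) trivial)⟩
  intro y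
  by_contra hy
  have hne : N.colon ({y} : Set F) ≠ ⊤ := fun ht => hy (by
    have : (1 : B) ∈ N.colon ({y} : Set F) := ht ▸ Submodule.mem_top
    have h1 : y ∈ LinearMap.range T := by simpa [N] using Submodule.mem_colon_singleton.1 this
    exact LinearMap.mem_range.1 h1)
  obtain ⟨I, hmax, hle⟩ := Ideal.exists_le_maximal _ hne
  obtain ⟨r, hr, hry⟩ := hI I hmax
  exact hr (hle (Submodule.mem_colon_singleton.2 (hry y)))

theorem tang_surjective {B : Type*} [CommRing B] {m : ℕ} (hn : n = 2 * m + 1) (U : Matrix (Fin n) (Fin n) B)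
    (hU : IsUnit (h U)) : Function.Surjective (tang U ((m : B) + 1)) := by
  refine surjective_of_forall_maximal _ fun I hI y => ?_
  let := Ideal.Quotient.field I
  let f := Ideal.Quotient.mk I
  obtain ⟨⟨X, c⟩, hXc⟩ := tang_surjective_field (a := f ((m : B) + 1)) ⟨m, hn⟩ (U.map f)
    (by rw [← map_h]; exact (hU.map f).ne_zero) (by rw [map_add, map_natCast, map_one, hn]; push_cast; ring)
    (fun s => f (y.1 s), f y.2)
  choose X' hX' using fun i j => Ideal.Quotient.mk_surjective (X i j)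
  obtain ⟨c', hc'⟩ := Ideal.Quotient.mk_surjective c
  refine ⟨(.of X', c'), ?_⟩
  have hX : (Matrix.of X').map f = X := by ext i j; exact hX' i j
  obtain ⟨h1, h2⟩ := tang_map f U ((m : B) + 1) (.of X') c'
  rw [hX, show f c' = c from hc', hXc] at h1 h2
  set z := y - tang U ((m : B) + 1) (.of X', c')
  have hz1 : ∀ s, z.1 s ∈ I := fun s => Ideal.Quotient.eq_zero_iff_mem.1 (by
    show f _ = 0
    simp only [z, Prod.fst_sub, Pi.sub_apply, map_sub, congrFun h1 s, sub_self])
  have hz2 : z.2 ∈ I := Ideal.Quotient.eq_zero_iff_mem.1 (by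
    show f _ = 0
    simp only [z, Prod.snd_sub, map_sub, h2, sub_self])
  have e : z = ∑ s, z.1 s • ((Pi.single s (1 : B), (0 : B)) : (Sym2 (Fin n) → B) × B) +
      z.2 • ((0 : Sym2 (Fin n) → B), (1 : B)) := by
    refine Prod.ext ?_ ?_
    · funext t
      simp [Prod.fst_sum, Finset.sum_apply, Pi.single_apply]
    · simp [Prod.snd_sum]
  rw [e]
  exact add_mem (Submodule.sum_mem _ fun s _ => Submodule.smul_mem_smul (hz1 s) trivial)
    (Submodule.smul_mem_smul hz2 trivial)

theorem one_add_pow {B : Type*} [CommRing B] {c : B} (hc : c * c = 0) : ∀ k : ℕ, (1 + c) ^ k = 1 + (k : B) * c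
  | 0 => by simp
  | k + 1 => by
    rw [pow_succ, one_add_pow hc k]
    push_cast
    linear_combination (k : B) * hc

theorem det_one_add {B : Type*} [CommRing B] {I : Ideal B} (hI : I ^ 2 = ⊥) (X : Matrix (Fin n) (Fin n) B)
    (hX : ∀ i j, X i j ∈ I) : (1 + X).det = 1 + X.trace := by
  have key : ∀ (T : Finset (Fin n)), ∏ i ∈ T, (1 + X) i i = 1 + ∑ i ∈ T, X i i := by
    intro T
    induction T using Finset.induction_on with
    | empty => simp
    | insert a T ha ih =>
      rw [Finset.prod_insert ha, Finset.sum_insert ha, ih, Matrix.add_apply, Matrix.one_apply_eq]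
      have : X a a * ∑ i ∈ T, X i i = 0 := by
        have := Ideal.mul_mem_mul (hX a a) (Ideal.sum_mem I fun i (_ : i ∈ T) => hX i i)
        rwa [← pow_two, hI, Ideal.mem_bot] at this
      linear_combination this
  rw [Matrix.det_apply, Finset.sum_eq_single (1 : Equiv.Perm (Fin n))]
  · rw [Equiv.Perm.sign_one, one_smul]; simpa [Matrix.trace] using key Finset.univ
  · intro σ _ hσ
    obtain ⟨i, hi⟩ : ∃ i, σ i ≠ i := by
      by_contra hcon; push Not at hcon; exact hσ (Equiv.ext hcon)
    have hj : σ (σ i) ≠ σ i := fun h => hi (σ.injective h)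
    rw [← Finset.mul_prod_erase Finset.univ _ (Finset.mem_univ i),
      ← Finset.mul_prod_erase (Finset.univ.erase i) _ (Finset.mem_erase.2 ⟨hi, Finset.mem_univ (σ i)⟩), ← mul_assoc]
    have : (1 + X) (σ i) i * (1 + X) (σ (σ i)) (σ i) = 0 := by
      rw [Matrix.add_apply, Matrix.add_apply, Matrix.one_apply_ne hi, Matrix.one_apply_ne hj, zero_add, zero_add]
      have := Ideal.mul_mem_mul (hX (σ i) i) (hX (σ (σ i)) (σ i))
      rwa [← pow_two, hI, Ideal.mem_bot] at this
    rw [this, zero_mul, smul_zero]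
  · simp

theorem lift_special {B : Type*} [CommRing B] {I : Ideal B} (hI : I ^ 2 = ⊥) {m : ℕ} (hn : n = 2 * m + 1)
    {U : Matrix (Fin n) (Fin n) B} (hU : IsUnit (h U)) (H : Matrix (Fin n) (Fin n) B)
    (hH : ∀ s, aU (Hᵀ * U * H) s - aU U s ∈ I) (hd : H.det - 1 ∈ I) :
    ∃ X : Matrix (Fin n) (Fin n) B, (∀ i j, X i j ∈ I) ∧
      aU ((H * (1 + X))ᵀ * U * (H * (1 + X))) = aU U ∧ (H * (1 + X)).det = 1 := by
  set T := tang U ((m : B) + 1)
  obtain ⟨σ, hσ⟩ := Module.projective_lifting_property T LinearMap.id (tang_surjective hn U hU)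
  set y : (Sym2 (Fin n) → B) × B := (aU U - aU (Hᵀ * U * H), 1 - H.det)
  have hy : y ∈ I • (⊤ : Submodule B ((Sym2 (Fin n) → B) × B)) := by
    have e : y = ∑ s, y.1 s • ((Pi.single s (1 : B), (0 : B)) : (Sym2 (Fin n) → B) × B) +
        y.2 • ((0 : Sym2 (Fin n) → B), (1 : B)) := by
      refine Prod.ext ?_ ?_
      · funext t; simp [Prod.fst_sum, Finset.sum_apply, Pi.single_apply]
      · simp [Prod.snd_sum]
    rw [e]
    refine add_mem (Submodule.sum_mem _ fun s _ => Submodule.smul_mem_smul ?_ trivial)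
      (Submodule.smul_mem_smul ?_ trivial)
    · show aU U s - aU (Hᵀ * U * H) s ∈ I
      rw [← neg_sub]; exact neg_mem (hH s)
    · show 1 - H.det ∈ I
      rw [← neg_sub]; exact neg_mem hd
  have hσy : (∀ i j, (σ y).1 i j ∈ I) ∧ (σ y).2 ∈ I := by
    refine Submodule.smul_induction_on (p := fun z => (∀ i j, (σ z).1 i j ∈ I) ∧ (σ z).2 ∈ I) hy ?_ ?_
    · intro r hr z _
      rw [map_smul]; exact ⟨fun i j => Ideal.mul_mem_right _ I hr, Ideal.mul_mem_right _ I hr⟩
    · intro a b ha hb
      rw [map_add]; exact ⟨fun i j => add_mem (ha.1 i j) (hb.1 i j), add_mem ha.2 hb.2⟩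
  obtain ⟨⟨X, c⟩, hXc⟩ : ∃ Xc, Xc = σ y := ⟨_, rfl⟩
  rw [← hXc] at hσy
  have hTy : T (X, c) = y := by rw [hXc]; exact LinearMap.congr_fun hσ y
  have h1 : aU ((U + Uᵀ) * X) + c • aU U = aU U - aU (Hᵀ * U * H) := congrArg Prod.fst hTy
  have h2 : X.trace + c * ((m : B) + 1) = 1 - H.det := congrArg Prod.snd hTy
  set H' := H * (1 + X)
  have hscale : aU (H'ᵀ * U * H') = aU ((1 - c) • U) := by
    rw [step hI U H X hH hσy.1, aU_smul, sub_smul, one_smul, eq_sub_iff_add_eq, add_assoc, h1]
    abel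
  have hdet : H'.det = 1 - c * ((m : B) + 1) := by
    rw [Matrix.det_mul, det_one_add hI X hσy.1]
    have h0 : (H.det - 1) * X.trace = 0 := by
      have := Ideal.mul_mem_mul hd (Ideal.sum_mem I fun i (_ : i ∈ Finset.univ) => hσy.1 i i)
      rwa [← pow_two, hI, Ideal.mem_bot] at this
    linear_combination h0 + h2
  have hcc : c * c = 0 := by
    have := Ideal.mul_mem_mul hσy.2 hσy.2
    rwa [← pow_two, hI, Ideal.mem_bot] at this
  have hc0 : c = 0 := by
    have h3 := h_congr hscale
    rw [h_transform ⟨m, hn⟩, h_smul ⟨m, hn⟩, hdet] at h3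
    have h4 := hU.mul_right_cancel h3
    rw [show (1 - c : B) = 1 + -c from sub_eq_add_neg 1 c, one_add_pow (by rw [neg_mul_neg, hcc]), hn] at h4
    push_cast at h4
    linear_combination ((m : B) + 1) ^ 2 * hcc - h4
  refine ⟨X, hσy.1, ?_, by rw [hdet, hc0, zero_mul, sub_zero]⟩
  rw [hscale, hc0, sub_zero, one_smul]

/-! ### The group schemes -/

section Schemes

variable {R : Type u} [CommRing R] (Q : QuadraticForm R (Fin n → R))

/-- The matrix of a bilinear lift. -/
def matU : Matrix (Fin n) (Fin n) R :=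
  LinearMap.toMatrix₂ (Pi.basisFun R (Fin n)) (Pi.basisFun R (Fin n)) (bilinLift Q)

theorem bilinLift_apply_self (x : Fin n → R) : bilinLift Q x x = Q x := DFunLike.congr_fun (bilinLift_spec Q) x

/-- The generic matrix. -/
def gen (R : Type u) [CommRing R] (n : ℕ) : Matrix (Fin n) (Fin n) (MvPolynomial (Fin n × Fin n) R) :=
  .of fun i j => MvPolynomial.X (i, j)

/-- The equations of `O(q)`. -/
def eqO (s : Sym2 (Fin n)) : MvPolynomial (Fin n × Fin n) R :=
  aU ((gen R n)ᵀ * (matU Q).map MvPolynomial.C * gen R n) s - MvPolynomial.C (aU (matU Q) s)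

/-- The equations of `SO'(q)`. -/
def eqSO : Option (Sym2 (Fin n)) → MvPolynomial (Fin n × Fin n) R :=
  fun o => o.elim ((gen R n).det - 1) (eqO Q)

theorem evM_eqO {A : Type*} [CommRing A] [Algebra R A] (H : Matrix (Fin n) (Fin n) A) (s : Sym2 (Fin n)) :
    evM H (eqO Q s) = aU (Hᵀ * (matU Q).map (algebraMap R A) * H) s - aU ((matU Q).map (algebraMap R A)) s := by
  rw [eqO, map_sub]
  congr 1
  · refine (aU_map (evM H).toRingHom _ s).trans ?_
    congr 1
    rw [Matrix.map_mul, Matrix.map_mul, Matrix.transpose_map, Matrix.map_map]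
    have e1 : (gen R n).map (evM H).toRingHom = H := by ext i j; simp [gen, evM]
    rw [e1]
    congr 2
    ext i j
    simp [evM]
  · rw [← aU_map]; simp [evM]

theorem isSol_eqO {A : Type*} [CommRing A] [Algebra R A] (H : Matrix (Fin n) (Fin n) A) :
    IsSol (eqO Q) H ↔ aU (Hᵀ * (matU Q).map (algebraMap R A) * H) = aU ((matU Q).map (algebraMap R A)) := by
  simp only [IsSol, evM_eqO, sub_eq_zero, funext_iff]

theorem isSol_eqSO {A : Type*} [CommRing A] [Algebra R A] (H : Matrix (Fin n) (Fin n) A) :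
    IsSol (eqSO Q) H ↔ IsSol (eqO Q) H ∧ H.det = 1 := by
  have e : evM H ((gen R n).det - 1) = H.det - 1 := by
    rw [map_sub, map_one, AlgHom.map_det]
    congr 2
    ext i j
    simp [gen, evM]
  refine ⟨fun hH => ⟨fun s => hH (some s), sub_eq_zero.1 (e ▸ hH none)⟩, fun hH o => ?_⟩
  cases o with
  | none => exact e.trans (sub_eq_zero.2 hH.2)
  | some s => exact hH.1 s

theorem ext_coeffs {S V : Type*} [CommRing S] [AddCommGroup V] [Module S V] (b : Module.Basis (Fin n) S V)
    {Q₁ Q₂ : QuadraticForm S V} (e : coeffs b (LinearEquiv.refl S S) Q₁ = coeffs b (LinearEquiv.refl S S) Q₂) :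
    Q₁ = Q₂ := by
  refine QuadraticMap.ext fun x => ?_
  have h1 : ∀ i, Q₁ (b i) = Q₂ (b i) := fun i => by
    have := congrFun e s(i, i)
    simpa [coeffs_mk] using this
  have h2 : ∀ i j, i ≠ j → QuadraticMap.polar Q₁ (b i) (b j) = QuadraticMap.polar Q₂ (b i) (b j) := fun i j hij => by
    have := congrFun e s(i, j)
    simpa [coeffs_mk, hij] using this
  rw [← b.sum_repr x, QuadraticMap.map_sum, QuadraticMap.map_sum]
  congr 1
  · simp [QuadraticMap.map_smul, h1]
  · refine Finset.sum_congr rfl fun s hs => ?_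
    induction s using Sym2.ind with
    | h i j =>
      simp only [Finset.mem_filter, Sym2.mk_isDiag_iff] at hs
      simp only [Sym2.map_mk, QuadraticMap.polarSym2_sym2Mk, QuadraticMap.polar_smul_left,
        QuadraticMap.polar_smul_right, h2 i j hs.2]

theorem coeffs_baseChangeForm (A : Type u) [CommRing A] [Algebra R A] :
    coeffs (bA R n A) (LinearEquiv.refl A A) (baseChangeForm A Q) = aU ((matU Q).map (algebraMap R A)) := by
  funext s
  rw [← aU_map, matU, ← coeffs_eq _ Q (bilinLift_apply_self Q)]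
  induction s using Sym2.ind with
  | h i j =>
    simp only [coeffs_mk, Module.Basis.baseChange_apply, LinearEquiv.refl_apply]
    split_ifs
    · exact baseChangeForm_tmul Q A _
    · rw [QuadraticMap.polar, QuadraticMap.polar, ← TensorProduct.tmul_add, baseChangeForm_tmul,
        baseChangeForm_tmul, baseChangeForm_tmul, map_sub, map_sub]

theorem mem_O_comp_iff {S V N N' : Type*} [CommRing S] [AddCommGroup V] [Module S V] [AddCommGroup N] [Module S N]
    [AddCommGroup N'] [Module S N'] (e : N ≃ₗ[S] N') (Q₀ : QuadraticMap S V N) (g : V ≃ₗ[S] V) :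
    g ∈ QuadGrp.O Q₀ ↔
      (e.toLinearMap.compQuadraticMap Q₀).comp g.toLinearMap = e.toLinearMap.compQuadraticMap Q₀ :=
  ⟨fun hg => QuadraticMap.ext fun x => congrArg e (hg x), fun hg x => e.injective (DFunLike.congr_fun hg x)⟩

theorem mem_orth_iff (A : Type u) [CommRing A] [Algebra R A]
    (g : (A ⊗[R] (Fin n → R)) ≃ₗ[A] (A ⊗[R] (Fin n → R))) : g ∈ orth Q A ↔ IsSol (eqO Q) (mat g) := by
  rw [isSol_eqO]
  let b := bA R n A
  let U := (matU Q).map (algebraMap R A)
  let Bf := Matrix.toLinearMap₂ b b U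
  have hB : LinearMap.toMatrix₂ b b Bf = U := LinearMap.toMatrix₂_toLinearMap₂ b b U
  let QB : QuadraticForm A (A ⊗[R] (Fin n → R)) := LinearMap.BilinMap.toQuadraticMap Bf
  have hQB : ∀ x, Bf x x = QB x := fun x => rfl
  have hQ : QB = baseChangeForm A Q := ext_coeffs b (by rw [coeffs_eq b QB hQB, hB, coeffs_baseChangeForm])
  have hcomp : coeffs b (LinearEquiv.refl A A) (QB.comp g.toLinearMap) = aU ((mat g)ᵀ * U * mat g) := by
    rw [coeffs_eq b (QB.comp g.toLinearMap) (B := Bf.compl₁₂ g.toLinearMap g.toLinearMap) fun x => hQB (g x),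
      LinearMap.toMatrix₂_compl₁₂ b b b b, hB]
  have hmem : g ∈ orth Q A ↔ QB.comp g.toLinearMap = QB := by
    rw [hQ]
    exact mem_O_comp_iff (TensorProduct.AlgebraTensorModule.rid R A A) (QuadGrp.baseChange A Q) g
  rw [hmem]
  show _ ↔ aU ((mat g)ᵀ * U * mat g) = aU U
  rw [← hcomp, ← hB, ← coeffs_eq b QB hQB]
  exact ⟨fun e => by rw [e], ext_coeffs b⟩

theorem mem_sorth'_iff (A : Type u) [CommRing A] [Algebra R A]
    (g : (A ⊗[R] (Fin n → R)) ≃ₗ[A] (A ⊗[R] (Fin n → R))) : g ∈ sorth' Q A ↔ IsSol (eqSO Q) (mat g) := by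
  rw [isSol_eqSO, ← mem_orth_iff, LinearMap.det_toMatrix, ← LinearEquiv.coe_det]
  exact ⟨fun hg => ⟨hg.1, by rw [MonoidHom.mem_ker.1 hg.2, Units.val_one]⟩,
    fun hg => ⟨hg.1, MonoidHom.mem_ker.2 (Units.ext hg.2)⟩⟩

variable (hQ : IsNondeg (Pi.basisFun R (Fin n)) (LinearEquiv.refl R R) Q)

include hQ in
theorem isUnit_h (ho : Odd n) (A : Type*) [CommRing A] [Algebra R A] : IsUnit (h ((matU Q).map (algebraMap R A))) := by
  rw [← map_h, matU, ← halfDisc_eq _ Q (bilinLift_apply_self Q)]
  exact (hQ.2 ho).map _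

include hQ in
theorem isUnit_det_polar (he : Even n ∨ IsUnit (2 : R)) (A : Type*) [CommRing A] [Algebra R A] :
    IsUnit ((matU Q).map (algebraMap R A) + ((matU Q).map (algebraMap R A))ᵀ).det := by
  have h0 : IsUnit (matU Q + (matU Q)ᵀ).det := by
    rcases Nat.even_or_odd n with hn | hn
    · refine (Matrix.isUnit_iff_isUnit_det _).1 (Matrix.mulVec_surjective_iff_isUnit.1 fun y => ?_)
      obtain ⟨x, hx⟩ := (hQ.1 hn).2 (∑ i, y i • (LinearMap.proj i : (Fin n → R) →ₗ[R] R))
      refine ⟨⇑((Pi.basisFun R (Fin n)).repr x), funext fun i => ?_⟩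
      have h1 := LinearMap.congr_fun hx (Pi.basisFun R (Fin n) i)
      rw [QuadraticMap.polarBilin_apply_apply, polar_of_bilin Q (bilinLift_apply_self Q),
        ← (Pi.basisFun R (Fin n)).sum_repr x] at h1
      simp only [map_sum, map_smul, LinearMap.sum_apply, LinearMap.smul_apply, smul_eq_mul,
        ← Finset.sum_add_distrib, LinearMap.proj_apply] at h1
      have hy : ∑ j, y j * Pi.basisFun R (Fin n) i j = y i := by simp [Pi.single_apply]
      rw [hy] at h1
      rw [← h1]
      simp only [matU, Matrix.mulVec, dotProduct, Matrix.add_apply, Matrix.transpose_apply,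
        LinearMap.toMatrix₂_apply]
      exact Finset.sum_congr rfl fun j _ => by ring
    · have h2 : IsUnit (2 : R) := he.resolve_left (Nat.not_even_iff_odd.2 hn)
      rw [← two_mul_h hn, matU, ← halfDisc_eq _ Q (bilinLift_apply_self Q)]
      exact h2.mul (hQ.2 hn)
  rw [← Matrix.transpose_map, ← Matrix.map_add _ (map_add _), ← RingHom.mapMatrix_apply, ← RingHom.map_det]
  exact h0.map _

include hQ in
theorem isUnit_det_sol (A : Type u) [CommRing A] [Algebra R A] (H : Matrix (Fin n) (Fin n) A)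
    (hH : IsSol (eqO Q) H) : IsUnit H.det := by
  rw [isSol_eqO] at hH
  refine IsUnit.of_mul_eq_one H.det ?_
  rw [← pow_two]
  rcases Nat.even_or_odd n with hn | hn
  · exact det_sq_eq_one_of_det (isUnit_det_polar Q hQ (Or.inl hn) A) hH
  · exact det_sq_eq_one_of_odd hn (isUnit_h Q hQ hn A) hH

theorem defect {B : Type u} [CommRing B] [Algebra R B] {I : Ideal B} (H' : Matrix (Fin n) (Fin n) B)
    (hH : IsSol (eqO Q) (H'.map (Ideal.Quotient.mkₐ R I))) (s : Sym2 (Fin n)) :
    aU (H'ᵀ * (matU Q).map (algebraMap R B) * H') s - aU ((matU Q).map (algebraMap R B)) s ∈ I := by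
  have h1 := hH s
  rw [evM_map, AlgHom.comp_apply, evM_eqO] at h1
  exact Ideal.Quotient.eq_zero_iff_mem.1 h1

theorem aU_scalar {B : Type*} [CommRing B] (U : Matrix (Fin n) (Fin n) B) {c : B} (hc : c * c = 1) :
    aU ((c • (1 : Matrix (Fin n) (Fin n) B))ᵀ * U * (c • 1)) = aU U := by
  rw [Matrix.transpose_smul, Matrix.transpose_one, Matrix.smul_mul, Matrix.one_mul, Matrix.mul_smul, Matrix.mul_one,
    smul_smul, hc, one_smul]

theorem isNilpotent_of_mul {B : Type*} [CommRing B] (K : Ideal B) (h : ∀ x ∈ K, ∀ y ∈ K, x * y = 0) :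
    IsNilpotent K := ⟨2, by
  rw [Submodule.zero_eq_bot, eq_bot_iff, pow_two, Ideal.mul_le]
  exact fun x hx y hy => (Ideal.mem_bot).2 (h x hx y hy)⟩

theorem map_one_add {B : Type*} [CommRing B] {I : Ideal B} {H X : Matrix (Fin n) (Fin n) B}
    (hX : ∀ i j, X i j ∈ I) : (H * (1 + X)).map (Ideal.Quotient.mk I) = H.map (Ideal.Quotient.mk I) := by
  rw [Matrix.mul_add, Matrix.mul_one]
  ext i j
  simp only [Matrix.map_apply, Matrix.add_apply, map_add]
  rw [Ideal.Quotient.eq_zero_iff_mem.2 (show (H * X) i j ∈ I by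
    rw [Matrix.mul_apply]; exact Ideal.sum_mem _ fun l _ => Ideal.mul_mem_left _ _ (hX l j)), add_zero]

include hQ in
theorem formallySmooth_O (he : Even n ∨ IsUnit (2 : R)) : Algebra.FormallySmooth R (coordRing (eqO Q)) := by
  refine formallySmooth_of_lift _ fun B _ _ I hI H hH => ?_
  choose H' hH' using fun i j => Ideal.Quotient.mk_surjective (H i j)
  have hmap : (Matrix.of H').map (Ideal.Quotient.mk I) = H := by ext i j; exact hH' i j
  obtain ⟨X, hX, hsol⟩ := lift_of_isUnit hI (isUnit_det_polar Q hQ he B) (.of H')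
    (defect Q _ (by rw [Ideal.Quotient.mkₐ_eq_mk, hmap]; exact hH))
  exact ⟨_, (isSol_eqO Q _).2 hsol, (map_one_add hX).trans hmap⟩

include hQ in
theorem formallySmooth_SO (he : Odd n ∨ IsUnit (2 : R)) : Algebra.FormallySmooth R (coordRing (eqSO Q)) := by
  refine formallySmooth_of_lift _ fun B _ _ I hI H hH => ?_
  choose H' hH' using fun i j => Ideal.Quotient.mk_surjective (H i j)
  have hmap : (Matrix.of H').map (Ideal.Quotient.mk I) = H := by ext i j; exact hH' i j
  rw [isSol_eqSO] at hH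
  have hd : (Matrix.of H').det - 1 ∈ I := Ideal.Quotient.eq_zero_iff_mem.1 (by
    rw [map_sub, map_one, RingHom.map_det, RingHom.mapMatrix_apply, hmap, hH.2, sub_self])
  have hdef := defect Q (Matrix.of H') (I := I) (by rw [Ideal.Quotient.mkₐ_eq_mk, hmap]; exact hH.1)
  rcases Nat.even_or_odd n with hn | hn
  · have h2 : IsUnit (algebraMap R B 2) := (he.resolve_left (Nat.not_odd_iff_even.2 hn)).map _
    have hP := isUnit_det_polar Q hQ (Or.inl hn) B
    obtain ⟨X, hX, hsol⟩ := lift_of_isUnit hI hP (.of H') hdef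
    refine ⟨_, (isSol_eqSO Q _).2 ⟨(isSol_eqO Q _).2 hsol, ?_⟩, (map_one_add hX).trans hmap⟩
    have hsq := det_sq_eq_one_of_det hP hsol
    set δ := (Matrix.of H' * (1 + X)).det
    have hδ : δ - 1 ∈ I := Ideal.Quotient.eq_zero_iff_mem.1 (by
      rw [map_sub, map_one, RingHom.map_det, RingHom.mapMatrix_apply, map_one_add hX, hmap, hH.2, sub_self])
    have h0 : (δ - 1) * (δ - 1) = 0 := by
      have := Ideal.mul_mem_mul hδ hδ
      rwa [← pow_two, hI, Ideal.mem_bot] at this
    rw [map_ofNat] at h2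
    exact sub_eq_zero.1 (h2.mul_right_eq_zero.1 (by linear_combination hsq - h0))
  · obtain ⟨m, hm⟩ := id hn
    obtain ⟨X, hX, hsol, hdet⟩ := lift_special hI hm (isUnit_h Q hQ hn B) (.of H') hdef hd
    exact ⟨_, (isSol_eqSO Q _).2 ⟨(isSol_eqO Q _).2 hsol, hdet⟩, (map_one_add hX).trans hmap⟩

include hQ in
theorem sq_eq_zero_of_formallySmooth (hn : Odd n) [Algebra.FormallySmooth R (coordRing (eqO Q))] {B C : Type u}
    [CommRing B] [Algebra R B] [CommRing C] [Algebra R C] (p : B →ₐ[R] C) (hp : Function.Surjective p) (t : B)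
    (ht3 : t ^ 3 = 0) (hker : ∀ z, p z = 0 → ∃ a, z = a * t ^ 2) (ht2 : p t * p t = 0) (h2B : (2 : B) = 0) :
    t ^ 2 = 0 := by
  have hnil : IsNilpotent (RingHom.ker p) := isNilpotent_of_mul (RingHom.ker p) fun x hx y hy => by
    obtain ⟨a, rfl⟩ := hker x (RingHom.mem_ker.1 hx)
    obtain ⟨c, rfl⟩ := hker y (RingHom.mem_ker.1 hy)
    linear_combination (a * c * t) * ht3
  have h2C : (2 : C) = 0 := by rw [← map_ofNat p 2, h2B, map_zero]
  let H : Matrix (Fin n) (Fin n) C := (1 + p t) • 1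
  have hsol : IsSol (eqO Q) H := by
    rw [isSol_eqO]
    exact aU_scalar _ (by linear_combination ht2 + p t * h2C)
  obtain ⟨H', hsol', hH'⟩ := exists_lift (eqO Q) p hp hnil H hsol
  have hsq := det_sq_eq_one_of_odd hn (isUnit_h Q hQ hn B) ((isSol_eqO Q _).1 hsol')
  have hpd : p H'.det = 1 + p t := by
    rw [AlgHom.map_det, AlgHom.mapMatrix_apply, hH']
    simp only [H, Matrix.det_smul, Matrix.det_one, mul_one, Fintype.card_fin]
    obtain ⟨m, rfl⟩ := hn
    rw [one_add_pow ht2]
    push_cast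
    linear_combination (m : C) * p t * h2C
  obtain ⟨a, ha⟩ := hker (H'.det - (1 + t)) (by
    rw [map_sub, hpd, map_add, map_one]
    exact sub_self _)
  have e : H'.det = 1 + t + a * t ^ 2 := by linear_combination ha
  rw [e] at hsq
  linear_combination hsq - (a * t ^ 2 + t) * h2B - (2 * a + a ^ 2 * t) * ht3

include hQ in
theorem not_formallySmooth_O (hn : Odd n) (h2 : ¬ IsUnit (2 : R)) : ¬ Algebra.FormallySmooth R (coordRing (eqO Q)) := by
  intro hfs
  obtain ⟨I, hI, hmem⟩ := exists_max_ideal_of_mem_nonunits (mem_nonunits_iff.2 h2)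
  let J3 : Ideal (Polynomial (R ⧸ I)) := Ideal.span {Polynomial.X ^ 3}
  let J2 : Ideal (Polynomial (R ⧸ I)) := Ideal.span {Polynomial.X ^ 2}
  have hle : J3 ≤ J2 := Ideal.span_singleton_le_span_singleton.2 (pow_dvd_pow _ (Nat.le_succ 2))
  haveI : Nontrivial (R ⧸ I) := Ideal.Quotient.nontrivial_iff.2 hI.ne_top
  let p : (Polynomial (R ⧸ I) ⧸ J3) →ₐ[R] (Polynomial (R ⧸ I) ⧸ J2) := Ideal.Quotient.factorₐ R hle
  have hp : Function.Surjective p := Ideal.Quotient.factor_surjective hle
  have key : (Ideal.Quotient.mk J3 Polynomial.X) ^ 2 = 0 := by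
    refine sq_eq_zero_of_formallySmooth Q hQ hn (B := Polynomial (R ⧸ I) ⧸ J3) (C := Polynomial (R ⧸ I) ⧸ J2) p hp (Ideal.Quotient.mk J3 Polynomial.X) ?_ (fun z hz => ?_) ?_ ?_
    · rw [← map_pow]; exact Ideal.Quotient.eq_zero_iff_mem.2 (Ideal.subset_span rfl)
    · obtain ⟨f, rfl⟩ := Ideal.Quotient.mk_surjective z
      have : f ∈ J2 := Ideal.Quotient.eq_zero_iff_mem.1 hz
      obtain ⟨a, ha⟩ := Ideal.mem_span_singleton'.1 this
      exact ⟨Ideal.Quotient.mk J3 a, by rw [← map_pow, ← map_mul, ha]⟩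
    · show Ideal.Quotient.mk J2 Polynomial.X * Ideal.Quotient.mk J2 Polynomial.X = 0
      rw [← map_mul, ← pow_two]; exact Ideal.Quotient.eq_zero_iff_mem.2 (Ideal.subset_span rfl)
    · rw [← map_ofNat ((Ideal.Quotient.mk J3).comp ((Polynomial.C).comp (Ideal.Quotient.mk I))) 2]
      rw [RingHom.comp_apply, RingHom.comp_apply, Ideal.Quotient.eq_zero_iff_mem.2 hmem, map_zero, map_zero]
  rw [← map_pow, Ideal.Quotient.eq_zero_iff_mem, Ideal.mem_span_singleton, Polynomial.X_pow_dvd_iff] at key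
  simpa using key 2 (Nat.lt_succ_self 2)

include hQ in
theorem smooth_O_iff (G : Over (Spec (CommRingCat.of R))) [GrpObj G] (D : OrthRep Q G) :
    Smooth G.hom ↔ (Even n ∨ IsUnit (2 : R)) := by
  rw [Rep.smooth_iff (eqO Q) _ (mem_orth_iff Q) (isUnit_det_sol Q hQ) D]
  refine ⟨fun hfs => ?_, formallySmooth_O Q hQ⟩
  by_contra hcon
  push Not at hcon
  exact not_formallySmooth_O Q hQ (Nat.not_even_iff_odd.1 hcon.1) hcon.2 hfs

include hQ in
theorem smooth_SO' (he : Odd n ∨ IsUnit (2 : R)) (G : Over (Spec (CommRingCat.of R))) [GrpObj G]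
    (D : SOrth'Rep Q G) : Smooth G.hom :=
  (Rep.smooth_iff (eqSO Q) _ (mem_sorth'_iff Q)
    (fun A _ _ H hH => isUnit_det_sol Q hQ A H ((isSol_eqSO Q H).1 hH).1) D).2 (formallySmooth_SO Q hQ he)

end Schemes

end Groth.Agent.Lib.QuadGrp99.OrthSmooth
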