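import Groth.Prelude.Def_QuadGrp
import Mathlib.LinearAlgebra.Matrix.Adjugate
import Mathlib.LinearAlgebra.Matrix.SesquilinearForm
import Mathlib.LinearAlgebra.Matrix.ToLinearEquiv
import Mathlib.LinearAlgebra.TensorProduct.Basis
import Mathlib.GroupTheory.Perm.Cycle.Type
import Mathlib.LinearAlgebra.QuadraticForm.Radical
import Mathlib.RingTheory.LocalRing.ResidueField.Ideal

/-!
# The half discriminant
-/

noncomputable section

universe u v

open scoped Matrix TensorProduct

namespace Groth.Agent.Lib.QuadGrp99.HalfDisc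

open QuadGrp

theorem det_symm_zero_diag {S : Type*} [CommRing S] {ι : Type*} [Fintype ι] [DecidableEq ι] (h2 : (2 : S) = 0)
    (hι : Odd (Fintype.card ι)) (M : Matrix ι ι S) (hsymm : ∀ i j, M i j = M j i) (hdiag : ∀ i, M i i = 0) :
    M.det = 0 := by
  rw [Matrix.det_apply]
  have hinv : ∀ σ : Equiv.Perm ι, Equiv.Perm.sign σ⁻¹ • ∏ i, M (σ⁻¹ i) i = Equiv.Perm.sign σ • ∏ i, M (σ i) i := by
    intro σ
    rw [Equiv.Perm.sign_inv]
    congr 1
    refine Fintype.prod_equiv σ⁻¹ _ _ fun i => ?_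
    simp [hsymm]
  refine Finset.sum_involution (fun σ _ => σ⁻¹) (fun σ _ => ?_) (fun σ _ hne he => hne ?_)
    (fun σ _ => Finset.mem_univ _) (fun σ _ => inv_inv σ)
  · rw [hinv, ← two_mul, h2, zero_mul]
  · have hσ : σ ^ 2 ^ 1 = 1 := by
      rw [pow_one, pow_two]
      nth_rw 1 [← he]
      exact inv_mul_cancel σ
    haveI : Fact (Nat.Prime 2) := ⟨Nat.prime_two⟩
    obtain ⟨i, hi⟩ := Equiv.Perm.exists_fixed_point_of_prime (p := 2) (n := 1)
      (by rw [← even_iff_two_dvd, Nat.not_even_iff_odd]; exact hι) hσ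
    rw [Finset.prod_eq_zero (Finset.mem_univ i) (by rw [hi, hdiag]), smul_zero]

theorem two_mul_halfDiscUniv {n : ℕ} (hn : Odd n) : 2 * halfDiscUniv n = discUniv n := by
  have h0 : MvPolynomial.map (Int.castRingHom (ZMod 2)) (discUniv n) = 0 := by
    rw [discUniv, RingHom.map_det]
    refine det_symm_zero_diag ?_ (by simpa using hn) _ (fun i j => ?_) fun i => ?_
    · rw [← map_ofNat MvPolynomial.C 2, show (OfNat.ofNat 2 : ZMod 2) = 0 from rfl, map_zero]
    · rcases eq_or_ne i j with rfl | h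
      · rfl
      · simp only [univPolarMat, RingHom.mapMatrix_apply, Matrix.map_apply, Matrix.of_apply, if_neg h,
          if_neg (Ne.symm h)]
        rw [Sym2.eq_swap]
    · simp only [univPolarMat, RingHom.mapMatrix_apply, Matrix.map_apply, Matrix.of_apply, if_pos, map_mul, map_ofNat]
      rw [← map_ofNat MvPolynomial.C 2, show (OfNat.ofNat 2 : ZMod 2) = 0 from rfl, map_zero, zero_mul]
  refine MvPolynomial.ext _ _ fun s => ?_
  rw [← map_ofNat MvPolynomial.C 2, MvPolynomial.coeff_C_mul, coeff_halfDiscUniv]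
  have h1 := congrArg (MvPolynomial.coeff s) h0
  rw [MvPolynomial.coeff_map, MvPolynomial.coeff_zero] at h1
  exact Int.mul_ediv_cancel' ((ZMod.intCast_zmod_eq_zero_iff_dvd _ 2).1 h1)

section Eval

variable {S : Type*} [CommRing S] {n : ℕ}

/-- Coefficients of the form `x ↦ xᵀ U x`. -/
def aU (U : Matrix (Fin n) (Fin n) S) : Sym2 (Fin n) → S :=
  Sym2.lift ⟨fun i j => if i = j then U i i else U i j + U j i, fun i j => by
    by_cases h : i = j
    · subst h; rfl
    · dsimp only
      rw [if_neg h, if_neg (Ne.symm h), add_comm]⟩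

theorem aU_mk (U : Matrix (Fin n) (Fin n) S) (i j : Fin n) :
    aU U s(i, j) = if i = j then U i i else U i j + U j i := rfl

/-- The half discriminant of `xᵀ U x`. -/
def h (U : Matrix (Fin n) (Fin n) S) : S := MvPolynomial.eval₂ (Int.castRingHom S) (aU U) (halfDiscUniv n)

theorem map_h {T : Type*} [CommRing T] (f : S →+* T) (U : Matrix (Fin n) (Fin n) S) : f (h U) = h (U.map f) := by
  rw [h, h, MvPolynomial.eval₂_comp_left]
  congr 1
  · exact RingHom.ext_int _ _
  · funext s
    induction s using Sym2.ind with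
    | h i j =>
      rw [Function.comp_apply, aU_mk, aU_mk]
      split <;> simp

theorem two_mul_h (hn : Odd n) (U : Matrix (Fin n) (Fin n) S) : 2 * h U = (U + Uᵀ).det := by
  have e : (2 : S) = MvPolynomial.eval₂ (Int.castRingHom S) (aU U) 2 := (map_ofNat (MvPolynomial.eval₂Hom _ _) 2).symm
  rw [h, e, ← MvPolynomial.eval₂_mul, two_mul_halfDiscUniv hn, discUniv]
  refine ((MvPolynomial.eval₂Hom (Int.castRingHom S) (aU U)).map_det _).trans (congrArg Matrix.det ?_)
  ext i j
  simp only [univPolarMat, RingHom.mapMatrix_apply, Matrix.map_apply, Matrix.of_apply, Matrix.add_apply,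
    Matrix.transpose_apply]
  split_ifs with hij
  · subst hij
    rw [map_mul, map_ofNat, MvPolynomial.eval₂Hom_X', aU_mk, if_pos rfl, two_mul]
  · rw [MvPolynomial.eval₂Hom_X', aU_mk, if_neg hij]

theorem h_transform (hn : Odd n) (U G : Matrix (Fin n) (Fin n) S) : h (Gᵀ * U * G) = G.det ^ 2 * h U := by
  let v : (Fin n × Fin n) ⊕ (Fin n × Fin n) → S := Sum.elim (fun p => U p.1 p.2) fun p => G p.1 p.2
  let f : MvPolynomial ((Fin n × Fin n) ⊕ (Fin n × Fin n)) ℤ →+* S := MvPolynomial.eval₂Hom (Int.castRingHom S) v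
  let U0 : Matrix (Fin n) (Fin n) (MvPolynomial ((Fin n × Fin n) ⊕ (Fin n × Fin n)) ℤ) :=
    .of fun i j => MvPolynomial.X (Sum.inl (i, j))
  let G0 : Matrix (Fin n) (Fin n) (MvPolynomial ((Fin n × Fin n) ⊕ (Fin n × Fin n)) ℤ) :=
    .of fun i j => MvPolynomial.X (Sum.inr (i, j))
  have hU : U0.map f = U := by ext i j; simp [U0, f, v]
  have hG : G0.map f = G := by ext i j; simp [G0, f, v]
  have huniv : h (G0ᵀ * U0 * G0) = G0.det ^ 2 * h U0 := by
    refine mul_left_cancel₀ (fun h2 : (2 : MvPolynomial ((Fin n × Fin n) ⊕ (Fin n × Fin n)) ℤ) = 0 => by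
      simpa [map_ofNat] using congrArg MvPolynomial.constantCoeff h2) ?_
    rw [two_mul_h hn, mul_left_comm, two_mul_h hn]
    have e : G0ᵀ * U0 * G0 + (G0ᵀ * U0 * G0)ᵀ = G0ᵀ * (U0 + U0ᵀ) * G0 := by
      rw [Matrix.transpose_mul, Matrix.transpose_mul, Matrix.transpose_transpose, Matrix.mul_add, Matrix.add_mul,
        ← Matrix.mul_assoc]
    rw [e, Matrix.det_mul, Matrix.det_mul, Matrix.det_transpose]
    ring
  have h1 := congrArg f huniv
  rwa [map_mul, map_pow, map_h, map_h, RingHom.map_det, RingHom.mapMatrix_apply, Matrix.map_mul, Matrix.map_mul,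
    Matrix.transpose_map, hU, hG] at h1

theorem h_row (hn : Odd n) (U : Matrix (Fin n) (Fin n) S) (p : Fin n) (hp : ∀ j, j ≠ p → U p j + U j p = 0) :
    h U = U p p * (U + Uᵀ).adjugate p p := by
  classical
  let f : MvPolynomial (Fin n × Fin n) ℤ →+* S := MvPolynomial.eval₂Hom (Int.castRingHom S) fun x => U x.1 x.2
  let U0 : Matrix (Fin n) (Fin n) (MvPolynomial (Fin n × Fin n) ℤ) :=
    .of fun i j => if j = p ∧ i ≠ p then - MvPolynomial.X (p, i) else MvPolynomial.X (i, j)
  have hU : U0.map f = U := by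
    ext i j
    simp only [U0, Matrix.map_apply, Matrix.of_apply]
    split_ifs with hij
    · obtain ⟨rfl, hi⟩ := hij
      rw [map_neg]
      simp only [f, MvPolynomial.eval₂Hom_X']
      exact neg_eq_of_add_eq_zero_right (hp i hi)
    · simp [f]
  have hrow : (U0 + U0ᵀ) p = (2 * U0 p p) • (Pi.single p 1 : Fin n → MvPolynomial (Fin n × Fin n) ℤ) := by
    funext j
    rcases eq_or_ne j p with rfl | hj
    · simp [two_mul]
    · simp [U0, hj, Pi.single_eq_of_ne hj]
  have huniv : h U0 = U0 p p * (U0 + U0ᵀ).adjugate p p := by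
    refine mul_left_cancel₀ (fun h2 : (2 : MvPolynomial (Fin n × Fin n) ℤ) = 0 => by
      simpa [map_ofNat] using congrArg MvPolynomial.constantCoeff h2) ?_
    rw [two_mul_h hn, ← mul_assoc, Matrix.adjugate_apply, ← Matrix.det_updateRow_smul]
    rw [← hrow, Matrix.updateRow_eq_self]
  have h1 := congrArg f huniv
  rw [map_h, map_mul, hU] at h1
  rw [h1]
  congr 1
  · exact congrArg (fun M : Matrix (Fin n) (Fin n) S => M p p) hU
  · have e := RingHom.map_adjugate f (U0 + U0ᵀ)
    rw [RingHom.mapMatrix_apply, RingHom.mapMatrix_apply, Matrix.map_add f (map_add f), Matrix.transpose_map, hU] at e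
    exact congrArg (fun M : Matrix (Fin n) (Fin n) S => M p p) e

end Eval

section Field

variable {k : Type*} [Field k] {n : ℕ}

theorem h_mul_sq (hn : Odd n) (U : Matrix (Fin n) (Fin n) k) {r : Fin n → k} (hr : (U + Uᵀ) *ᵥ r = 0) (p : Fin n) :
    r p ^ 2 * h U = r ⬝ᵥ (U *ᵥ r) *
      ((((1 : Matrix (Fin n) (Fin n) k).updateCol p r))ᵀ * (U + Uᵀ) *
        (1 : Matrix (Fin n) (Fin n) k).updateCol p r).adjugate p p := by
  set E := (1 : Matrix (Fin n) (Fin n) k).updateCol p r with hE
  have hdet : E.det = r p := by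
    rw [hE, ← Matrix.cramer_apply, Matrix.cramer_one]; rfl
  have hsum : Eᵀ * U * E + (Eᵀ * U * E)ᵀ = Eᵀ * (U + Uᵀ) * E := by
    rw [Matrix.transpose_mul, Matrix.transpose_mul, Matrix.transpose_transpose, Matrix.mul_add, Matrix.add_mul,
      ← Matrix.mul_assoc]
  have hcol : E *ᵥ Pi.single p 1 = r := by
    rw [Matrix.mulVec_single_one]; funext i; simp [hE]
  have hzero : (Eᵀ * (U + Uᵀ) * E) *ᵥ Pi.single p 1 = 0 := by
    rw [← Matrix.mulVec_mulVec, hcol, ← Matrix.mulVec_mulVec, hr, Matrix.mulVec_zero]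
  have hval : (Eᵀ * U * E) p p = r ⬝ᵥ (U *ᵥ r) := by
    have : (Eᵀ * U * E) p p = Pi.single p 1 ⬝ᵥ ((Eᵀ * U * E) *ᵥ Pi.single p 1) := by simp
    rw [this, ← Matrix.mulVec_mulVec, hcol, ← Matrix.mulVec_mulVec, Matrix.dotProduct_mulVec,
      Matrix.vecMul_transpose, hcol]
  have h1 := h_row hn (Eᵀ * U * E) p fun j _ => by
    have h2 := congrFun hzero j
    rw [← hsum] at h2
    simp only [Matrix.mulVec_single_one, Matrix.col_apply, Matrix.add_apply, Matrix.transpose_apply,
      Pi.zero_apply] at h2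
    rw [add_comm]
    exact h2
  rw [h_transform hn, hdet, hsum, hval] at h1
  exact h1

theorem exists_ker_of_two_eq_zero (hn : Odd n) (h2 : (2 : k) = 0) (U : Matrix (Fin n) (Fin n) k) :
    ∃ r : Fin n → k, r ≠ 0 ∧ (U + Uᵀ) *ᵥ r = 0 := by
  refine Matrix.exists_mulVec_eq_zero_iff.2 ?_
  rw [← two_mul_h hn, h2, zero_mul]

/-- Nondegeneracy in terms of the matrix. -/
theorem h_ne_zero_iff (hn : Odd n) (U : Matrix (Fin n) (Fin n) k) :
    h U ≠ 0 ↔ (∀ r, (U + Uᵀ) *ᵥ r = 0 → r ⬝ᵥ (U *ᵥ r) = 0 → r = 0) ∧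
      ∃ v, ∀ r, (U + Uᵀ) *ᵥ r = 0 → ∃ c : k, r = c • v := by
  by_cases h2 : (2 : k) = 0
  · obtain ⟨r, hr0, hr⟩ := exists_ker_of_two_eq_zero hn h2 U
    obtain ⟨p, hp⟩ := Function.ne_iff.1 hr0
    constructor
    · intro hU
      refine ⟨fun s hs hs' => ?_, r, fun s hs => ?_⟩
      · by_contra hs0
        obtain ⟨q, hq⟩ := Function.ne_iff.1 hs0
        have h1 := h_mul_sq hn U hs q
        rw [hs', zero_mul] at h1
        exact hU ((mul_eq_zero.1 h1).resolve_left (pow_ne_zero 2 hq))
      · refine ⟨s p / r p, ?_⟩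
        by_contra hne
        set s' := s - (s p / r p) • r with hs'
        have hs'0 : s' ≠ 0 := sub_ne_zero.2 hne
        have hs'p : s' p = 0 := by simp [hs', div_mul_cancel₀ _ hp]
        have hs'k : (U + Uᵀ) *ᵥ s' = 0 := by rw [hs', Matrix.mulVec_sub, Matrix.mulVec_smul, hr, hs]; simp
        have h1 := h_mul_sq hn U hr p
        rw [Matrix.adjugate_apply, Matrix.exists_mulVec_eq_zero_iff.1 ⟨s', hs'0, ?_⟩, mul_zero] at h1
        · exact hU ((mul_eq_zero.1 h1).resolve_left (pow_ne_zero 2 hp))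
        · have hEs : (1 : Matrix (Fin n) (Fin n) k).updateCol p r *ᵥ s' = s' := by
            funext i
            rw [Matrix.mulVec, dotProduct, Finset.sum_eq_single i (fun j _ hj => ?_) (by simp)]
            · rcases eq_or_ne i p with rfl | hi
              · simp [hs'p]
              · simp [hi]
            · rcases eq_or_ne j p with rfl | hjp
              · simp [hs'p]
              · simp [hjp, Ne.symm hj]
          funext i
          rcases eq_or_ne i p with rfl | hi
          · simp [Matrix.mulVec, dotProduct, Pi.single_apply, hs'p]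
          · rw [Matrix.mulVec, Matrix.updateRow_ne hi]
            show (((1 : Matrix (Fin n) (Fin n) k).updateCol p r)ᵀ * (U + Uᵀ) *
              (1 : Matrix (Fin n) (Fin n) k).updateCol p r) i ⬝ᵥ s' = 0
            change ((((1 : Matrix (Fin n) (Fin n) k).updateCol p r)ᵀ * (U + Uᵀ) *
              (1 : Matrix (Fin n) (Fin n) k).updateCol p r) *ᵥ s') i = 0
            rw [← Matrix.mulVec_mulVec, hEs, ← Matrix.mulVec_mulVec, hs'k, Matrix.mulVec_zero]
            rfl
    · rintro ⟨hrad, v, hv⟩ hU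
      have hQr : r ⬝ᵥ (U *ᵥ r) ≠ 0 := fun hh => hr0 (hrad r hr hh)
      have h1 := h_mul_sq hn U hr p
      rw [hU, mul_zero] at h1
      have h3 := (mul_eq_zero.1 h1.symm).resolve_left hQr
      rw [Matrix.adjugate_apply] at h3
      obtain ⟨s, hs0, hs⟩ := Matrix.exists_mulVec_eq_zero_iff.2 h3
      set E := (1 : Matrix (Fin n) (Fin n) k).updateCol p r with hE
      have hsp : s p = 0 := by
        have := congrFun hs p
        simpa [Matrix.mulVec, dotProduct, Pi.single_apply] using this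
      have hEs : E *ᵥ s = s := by
        funext i
        rw [Matrix.mulVec, dotProduct, Finset.sum_eq_single i (fun j _ hj => ?_) (by simp)]
        · rcases eq_or_ne i p with rfl | hi
          · simp [hsp]
          · simp [hE, hi]
        · rcases eq_or_ne j p with rfl | hjp
          · simp [hsp]
          · simp [hE, hjp, Ne.symm hj]
      have hsym : (Eᵀ * (U + Uᵀ) * E)ᵀ = Eᵀ * (U + Uᵀ) * E := by
        rw [Matrix.transpose_mul, Matrix.transpose_mul, Matrix.transpose_transpose, Matrix.transpose_add,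
          Matrix.transpose_transpose, add_comm Uᵀ, Matrix.mul_assoc]
      have hzero : (Eᵀ * (U + Uᵀ) * E) *ᵥ s = 0 := by
        funext i
        rcases eq_or_ne i p with rfl | hi
        · have hcol : E *ᵥ Pi.single i 1 = r := by rw [Matrix.mulVec_single_one]; funext a; simp [hE]
          show ((Eᵀ * (U + Uᵀ) * E) *ᵥ s) i = 0
          rw [← hsym, Matrix.mulVec_transpose]
          have : s ᵥ* (Eᵀ * (U + Uᵀ) * E) ⬝ᵥ Pi.single i 1 = 0 := by
            rw [← Matrix.dotProduct_mulVec, ← Matrix.mulVec_mulVec, hcol, ← Matrix.mulVec_mulVec, hr]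
            simp
          simpa using this
        · have := congrFun hs i
          rw [Matrix.mulVec, Matrix.updateRow_ne hi] at this
          exact this
      have hE' : IsUnit Eᵀ.det := by
        rw [Matrix.det_transpose, hE, ← Matrix.cramer_apply, Matrix.cramer_one]
        exact isUnit_iff_ne_zero.2 hp
      have hPs : (U + Uᵀ) *ᵥ s = 0 := by
        rw [← Matrix.mulVec_mulVec, hEs, ← Matrix.mulVec_mulVec] at hzero
        exact Matrix.mulVec_injective_of_isUnit ((Matrix.isUnit_iff_isUnit_det _).2 hE')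
          (hzero.trans (Matrix.mulVec_zero _).symm)
      obtain ⟨c, hc⟩ := hv s hPs
      obtain ⟨d, hd⟩ := hv r hr
      have hd0 : d ≠ 0 := by rintro rfl; exact hr0 (by rw [hd, zero_smul])
      have hv0 : v p ≠ 0 := fun h0 => hp (by rw [hd]; simp [h0])
      have : c = 0 := by
        rw [hc] at hsp
        exact (mul_eq_zero.1 (by simpa using hsp : c * v p = 0)).resolve_right hv0
      exact hs0 (by rw [hc, this, zero_smul])
  · constructor
    · intro hU
      have hker : ∀ r, (U + Uᵀ) *ᵥ r = 0 → r = 0 := fun r hr => by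
        by_contra hr0
        have := Matrix.exists_mulVec_eq_zero_iff.1 ⟨r, hr0, hr⟩
        rw [← two_mul_h hn] at this
        exact hU ((mul_eq_zero.1 this).resolve_left h2)
      exact ⟨fun r hr _ => hker r hr, 0, fun r hr => ⟨0, by rw [hker r hr, smul_zero]⟩⟩
    · rintro ⟨hrad, -⟩ hU
      obtain ⟨r, hr0, hr⟩ := Matrix.exists_mulVec_eq_zero_iff.2 (show (U + Uᵀ).det = 0 by
        rw [← two_mul_h hn, hU, mul_zero])
      refine hr0 (hrad r hr ((mul_eq_zero.1 ?_).resolve_left h2))
      have e : (2 : k) * (r ⬝ᵥ (U *ᵥ r)) = r ⬝ᵥ ((U + Uᵀ) *ᵥ r) := by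
        rw [two_mul, Matrix.add_mulVec, dotProduct_add, Matrix.mulVec_transpose,
          dotProduct_comm r (r ᵥ* U), ← Matrix.dotProduct_mulVec]
      rw [e, hr, dotProduct_zero]

end Field

/-- The cofactors of a semiregular polar matrix generate the unit ideal. -/
theorem adjugate_ne_zero {S : Type*} [CommRing S] {n : ℕ} (hn : Odd n) (U : Matrix (Fin n) (Fin n) S)
    (hU : IsUnit (h U)) (I : Ideal S) [I.IsMaximal] : ∃ i j, (U + Uᵀ).adjugate i j ∉ I := by
  by_contra hcon
  push Not at hcon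
  let := Ideal.Quotient.field I
  let f := Ideal.Quotient.mk I
  have hU' : h (U.map f) ≠ 0 := by rw [← map_h]; exact (hU.map f).ne_zero
  have hadj : (U.map f + (U.map f)ᵀ).adjugate = 0 := by
    have e := RingHom.map_adjugate f (U + Uᵀ)
    rw [RingHom.mapMatrix_apply, RingHom.mapMatrix_apply, Matrix.map_add f (map_add f), Matrix.transpose_map] at e
    rw [← e]
    ext i j
    exact Ideal.Quotient.eq_zero_iff_mem.2 (hcon i j)
  by_cases h2 : (2 : S ⧸ I) = 0
  · obtain ⟨r, hr0, hr⟩ := exists_ker_of_two_eq_zero hn h2 (U.map f)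
    obtain ⟨p, hp⟩ := Function.ne_iff.1 hr0
    have h1 := h_mul_sq hn (U.map f) hr p
    rw [Matrix.adjugate_mul_distrib, Matrix.adjugate_mul_distrib, hadj] at h1
    simp only [Matrix.zero_mul, Matrix.mul_zero, Matrix.zero_apply, mul_zero] at h1
    exact hU' ((mul_eq_zero.1 h1).resolve_left (pow_ne_zero 2 hp))
  · have h1 := Matrix.mul_adjugate (U.map f + (U.map f)ᵀ)
    rw [hadj, Matrix.mul_zero] at h1
    obtain ⟨m, hm⟩ := hn
    have h3 := congrArg (fun M : Matrix (Fin n) (Fin n) (S ⧸ I) => M ⟨0, by omega⟩ ⟨0, by omega⟩) h1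
    simp [← two_mul_h ⟨m, hm⟩] at h3
    exact h3.elim h2 hU'

/-- An alternating matrix killed by a semiregular polar matrix vanishes. -/
theorem alt_eq_zero {S : Type*} [CommRing S] {n : ℕ} (hn : Odd n) (U : Matrix (Fin n) (Fin n) S) (hU : IsUnit (h U))
    (Z : Matrix (Fin n) (Fin n) S) (halt : ∀ i j, Z i j = - Z j i) (hdiag : ∀ i, Z i i = 0)
    (hZ : Z * (U + Uᵀ) = 0) : Z = 0 := by
  classical
  set P := U + Uᵀ
  have hPsym : Pᵀ = P := by simp [P, Matrix.transpose_add, add_comm]
  have hZt : Zᵀ = -Z := Matrix.ext fun i j => halt j i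
  have hPZ : P * Z = 0 := by
    have := congrArg Matrix.transpose hZ
    rw [Matrix.transpose_mul, hPsym, hZt, Matrix.mul_neg, Matrix.transpose_zero, neg_eq_zero] at this
    exact this
  have key : ∀ p j k l, Z p j * P.adjugate k l = Z k j * P.adjugate p l := by
    intro p j k l
    have hz : P *ᵥ (fun q => Z q j) = 0 := funext fun i => congrFun (congrFun hPZ i) j
    set x : Fin n → S := Pi.single k 1
    set P' := P.updateRow l x
    have hP'z : P' *ᵥ (fun q => Z q j) = Z k j • Pi.single l 1 := by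
      funext i
      rcases eq_or_ne i l with rfl | hi
      · simp [P', x, Matrix.mulVec, dotProduct, Pi.single_apply]
      · simp only [P', Matrix.mulVec, Matrix.updateRow_ne hi, Pi.smul_apply, Pi.single_eq_of_ne hi, smul_zero]
        exact congrFun hz i
    have h1 := congrArg (fun w => (P'.adjugate *ᵥ w) p) hP'z
    simp only [Matrix.mulVec_mulVec, Matrix.adjugate_mul, Matrix.smul_mulVec, Matrix.one_mulVec,
      Matrix.mulVec_smul, Matrix.mulVec_single_one, Pi.smul_apply, smul_eq_mul, Matrix.col_apply] at h1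
    have e1 : P'.det = P.adjugate k l := (Matrix.adjugate_apply P k l).symm
    have e2 : P'.adjugate p l = P.adjugate p l := by
      rw [Matrix.adjugate_apply, Matrix.adjugate_apply, Matrix.updateRow_idem]
    rw [e1, e2] at h1
    rw [mul_comm, h1]
  have h0 : ∀ j k l, Z k j * P.adjugate j l = 0 := fun j k l => by rw [← key j j k l, hdiag, zero_mul]
  have hsq : ∀ p j k l, Z p j * P.adjugate k l ^ 2 = 0 := fun p j k l => by
    have h1 : Z k j * P.adjugate k l = 0 := by rw [halt k j, neg_mul, h0 k j l, neg_zero]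
    rw [pow_two, ← mul_assoc, key p j k l, mul_right_comm, h1, zero_mul]
  ext p j
  have hspan : Ideal.span (Set.range fun kl : Fin n × Fin n => P.adjugate kl.1 kl.2 ^ 2) = ⊤ := by
    by_contra hne
    obtain ⟨I, hI, hle⟩ := Ideal.exists_le_maximal _ hne
    obtain ⟨k, l, hkl⟩ := adjugate_ne_zero hn U hU I
    exact hkl (hI.isPrime.mem_of_pow_mem 2 (hle (Ideal.subset_span ⟨(k, l), rfl⟩)))
  have : ∀ a ∈ Ideal.span (Set.range fun kl : Fin n × Fin n => P.adjugate kl.1 kl.2 ^ 2), Z p j * a = 0 := by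
    intro a ha
    induction ha using Submodule.span_induction with
    | mem a ha => obtain ⟨kl, rfl⟩ := ha; exact hsq _ _ _ _
    | zero => simp
    | add a b _ _ ha hb => rw [mul_add, ha, hb, add_zero]
    | smul c a _ ha => rw [smul_eq_mul, mul_left_comm, ha, mul_zero]
  simpa using this 1 (hspan ▸ Submodule.mem_top)

section Form

variable {R : Type u} [CommRing R] {M : Type v} [AddCommGroup M] [Module R M] {n : ℕ}
  (b : Module.Basis (Fin n) R M) (Q : QuadraticForm R M)

theorem exists_bilin (b : Module.Basis (Fin n) R M) (Q : QuadraticForm R M) :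
    ∃ B : LinearMap.BilinMap R M R, ∀ x, B x x = Q x := by
  have := Module.Free.of_basis b
  obtain ⟨B, hB⟩ := LinearMap.BilinMap.toQuadraticMap_surjective Q
  exact ⟨B, fun x => DFunLike.congr_fun hB x⟩

theorem polar_of_bilin {B : LinearMap.BilinMap R M R} (hB : ∀ x, B x x = Q x) (x y : M) :
    QuadraticMap.polar Q x y = B x y + B y x := by
  rw [QuadraticMap.polar, ← hB, ← hB, ← hB]
  simp [map_add]
  ring

theorem coeffs_eq {B : LinearMap.BilinMap R M R} (hB : ∀ x, B x x = Q x) :
    coeffs b (LinearEquiv.refl R R) Q = aU (LinearMap.toMatrix₂ b b B) := by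
  funext s
  induction s using Sym2.ind with
  | h i j =>
    rw [coeffs_mk, aU_mk, LinearMap.toMatrix₂_apply, LinearMap.toMatrix₂_apply, LinearMap.toMatrix₂_apply]
    split_ifs with hij
    · subst hij; exact (hB _).symm
    · exact polar_of_bilin Q hB _ _

theorem halfDisc_eq {B : LinearMap.BilinMap R M R} (hB : ∀ x, B x x = Q x) :
    halfDisc b (LinearEquiv.refl R R) Q = h (LinearMap.toMatrix₂ b b B) := by
  rw [halfDisc, h, coeffs_eq b Q hB]

theorem halfDisc_comp (hn : Odd n) (g : M →ₗ[R] M) :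
    halfDisc b (LinearEquiv.refl R R) (Q.comp g) = LinearMap.det g ^ 2 * halfDisc b (LinearEquiv.refl R R) Q := by
  obtain ⟨B, hB⟩ := exists_bilin b Q
  rw [halfDisc_eq b Q hB, halfDisc_eq b (Q.comp g) (B := B.compl₁₂ g g) fun x => hB (g x),
    LinearMap.toMatrix₂_compl₁₂ b b b b, h_transform hn, LinearMap.det_toMatrix]

theorem det_mul_det (hn : Odd n) (hQ : IsSemiregular b (LinearEquiv.refl R R) Q) (g : M ≃ₗ[R] M)
    (hg : g ∈ QuadGrp.O Q) : LinearEquiv.det g * LinearEquiv.det g = 1 := by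
  have e : Q.comp g.toLinearMap = Q := QuadraticMap.ext fun x => hg x
  have h1 := halfDisc_comp b Q hn g.toLinearMap
  rw [e] at h1
  refine Units.ext ?_
  rw [Units.val_mul, Units.val_one, LinearEquiv.coe_det, ← pow_two]
  exact IsUnit.mul_right_cancel (b := halfDisc b (LinearEquiv.refl R R) Q) hQ (by rw [one_mul]; exact h1.symm)

theorem polarBilin_eq {B : LinearMap.BilinMap R M R} (hB : ∀ x, B x x = Q x) (x : M) :
    Q.polarBilin x = 0 ↔
      ((LinearMap.toMatrix₂ b b B) + (LinearMap.toMatrix₂ b b B)ᵀ) *ᵥ ⇑(b.repr x) = 0 := by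
  have e : ∀ j, Q.polarBilin x (b j) =
      (((LinearMap.toMatrix₂ b b B) + (LinearMap.toMatrix₂ b b B)ᵀ) *ᵥ ⇑(b.repr x)) j := by
    intro j
    rw [QuadraticMap.polarBilin_apply_apply, polar_of_bilin Q hB]
    conv_lhs => rw [← b.sum_repr x]
    simp only [map_sum, map_smul, LinearMap.sum_apply, LinearMap.smul_apply, smul_eq_mul, Matrix.mulVec,
      dotProduct, Matrix.add_apply, Matrix.transpose_apply, LinearMap.toMatrix₂_apply, ← Finset.sum_add_distrib]
    exact Finset.sum_congr rfl fun i _ => by ring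
  exact ⟨fun hx => funext fun j => by rw [← e, hx]; rfl,
    fun hx => b.ext fun j => by rw [e, hx]; rfl⟩

theorem value_eq {B : LinearMap.BilinMap R M R} (hB : ∀ x, B x x = Q x) (x : M) :
    Q x = ⇑(b.repr x) ⬝ᵥ (LinearMap.toMatrix₂ b b B *ᵥ ⇑(b.repr x)) := by
  rw [← hB]
  conv_lhs => rw [← b.sum_repr x]
  simp only [map_sum, map_smul, LinearMap.sum_apply, LinearMap.smul_apply, smul_eq_mul, Matrix.mulVec, dotProduct,
    LinearMap.toMatrix₂_apply, Finset.mul_sum]
  rw [Finset.sum_comm]
  exact Finset.sum_congr rfl fun i _ => Finset.sum_congr rfl fun j _ => by ring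

theorem nondegenerate_iff {K : Type u} [Field K] {V : Type*} [AddCommGroup V] [Module K V] (hn : Odd n)
    (b : Module.Basis (Fin n) K V) (Q : QuadraticForm K V) :
    halfDisc b (LinearEquiv.refl K K) Q ≠ 0 ↔ QuadraticMap.Nondegenerate (Q := Q) := by
  obtain ⟨B, hB⟩ := exists_bilin b Q
  rw [halfDisc_eq b Q hB, h_ne_zero_iff hn]
  constructor
  · rintro ⟨h1, v, h2⟩
    refine ⟨eq_bot_iff.2 fun x hx => ?_, ?_⟩
    · refine (Submodule.mem_bot K).2 (b.repr.map_eq_zero_iff.1 (DFunLike.coe_injective ?_))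
      exact h1 _ ((polarBilin_eq b Q hB x).1 hx.2) ((value_eq b Q hB x).symm.trans hx.1)
    · refine (rank_submodule_le_one_iff' _).2 ⟨b.equivFun.symm v, fun x hx => ?_⟩
      obtain ⟨c, hc⟩ := h2 _ ((polarBilin_eq b Q hB x).1 hx)
      refine Submodule.mem_span_singleton.2 ⟨c, b.equivFun.injective ?_⟩
      rw [map_smul, LinearEquiv.apply_symm_apply]
      exact hc.symm
  · rintro ⟨h1, h2⟩
    obtain ⟨v, hv⟩ := (rank_submodule_le_one_iff' _).1 h2
    refine ⟨fun r hr hr' => ?_, ⇑(b.repr v), fun r hr => ?_⟩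
    · obtain ⟨x, rfl⟩ : ∃ x, ⇑(b.repr x) = r := ⟨b.equivFun.symm r, b.equivFun.apply_symm_apply r⟩
      have : x ∈ Q.radical := ⟨(value_eq b Q hB x).trans hr', (polarBilin_eq b Q hB x).2 hr⟩
      rw [h1, Submodule.mem_bot] at this
      simp [this]
    · obtain ⟨x, rfl⟩ : ∃ x, ⇑(b.repr x) = r := ⟨b.equivFun.symm r, b.equivFun.apply_symm_apply r⟩
      obtain ⟨c, rfl⟩ := Submodule.mem_span_singleton.1 (hv ((polarBilin_eq b Q hB x).2 hr))
      exact ⟨c, by simp⟩

theorem baseChangeForm_tmul [Module.Free R M] (A : Type*) [CommRing A] [Algebra R A] (x : M) :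
    QuadGrp.baseChangeForm A Q ((1 : A) ⊗ₜ[R] x) = algebraMap R A (Q x) := by
  simp [QuadGrp.baseChangeForm, QuadGrp.baseChange_tmul, Algebra.smul_def]

theorem halfDisc_baseChange [Module.Free R M] (A : Type*) [CommRing A] [Algebra R A] :
    halfDisc (b.baseChange A) (LinearEquiv.refl A A) (QuadGrp.baseChangeForm A Q) =
      algebraMap R A (halfDisc b (LinearEquiv.refl R R) Q) := by
  rw [halfDisc, halfDisc, MvPolynomial.eval₂_comp_left]
  congr 1
  · exact RingHom.ext_int _ _
  · funext s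
    induction s using Sym2.ind with
    | h i j =>
      simp only [Function.comp_apply, coeffs_mk, Module.Basis.baseChange_apply, LinearEquiv.refl_apply]
      split_ifs
      · exact baseChangeForm_tmul Q A _
      · rw [QuadraticMap.polar, QuadraticMap.polar, ← TensorProduct.tmul_add, baseChangeForm_tmul,
          baseChangeForm_tmul, baseChangeForm_tmul, map_sub, map_sub]

theorem isUnit_iff [Module.Free R M] (hn : Odd n) :
    IsUnit (halfDisc b (LinearEquiv.refl R R) Q) ↔
      ∀ (p : Ideal R) [p.IsPrime], QuadraticMap.Nondegenerate (Q := QuadGrp.baseChangeForm p.ResidueField Q) := by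
  constructor
  · intro hu p _
    rw [← nondegenerate_iff hn (b.baseChange p.ResidueField), halfDisc_baseChange]
    exact (hu.map _).ne_zero
  · intro hall
    by_contra hnu
    obtain ⟨p, hp, hmem⟩ := exists_max_ideal_of_mem_nonunits (mem_nonunits_iff.2 hnu)
    haveI := hp.isPrime
    refine (nondegenerate_iff hn (b.baseChange p.ResidueField) _).2 (hall p) ?_
    rw [halfDisc_baseChange, ← RingHom.mem_ker, Ideal.ker_algebraMap_residueField]
    exact hmem

end Form

end Groth.Agent.Lib.QuadGrp99.HalfDisc
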