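import Groth.Agent.Lib.QuadGrp99.HalfDisc
import Groth.Agent.Lib.GrassRep.AffinePoints
import Groth.Prelude.Def_QuadGrp2
import Mathlib.AlgebraicGeometry.Morphisms.Smooth
import Mathlib.RingTheory.Smooth.Basic

/-!
# Group schemes cut out of `GL_n` by equations
-/

noncomputable section

universe u

open CategoryTheory AlgebraicGeometry MonObj
open scoped Matrix TensorProduct

namespace Groth.Agent.Lib.QuadGrp99.Rep

open QuadGrp HalfDisc

variable {R : Type u} [CommRing R] {n : ℕ}

/-- A matrix as a point of the affine space of matrices. -/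
def evM {A : Type*} [CommRing A] [Algebra R A] (H : Matrix (Fin n) (Fin n) A) :
    MvPolynomial (Fin n × Fin n) R →ₐ[R] A :=
  MvPolynomial.aeval fun p => H p.1 p.2

variable {κ : Type*} (E : κ → MvPolynomial (Fin n × Fin n) R)

/-- The ideal of the equations. -/
abbrev eqI : Ideal (MvPolynomial (Fin n × Fin n) R) := Ideal.span (Set.range E)

/-- The coordinate ring. -/
abbrev coordRing : Type u := MvPolynomial (Fin n × Fin n) R ⧸ eqI E

/-- The zero locus. -/
def IsSol {A : Type*} [CommRing A] [Algebra R A] (H : Matrix (Fin n) (Fin n) A) : Prop := ∀ k, evM H (E k) = 0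

theorem evM_map {A B : Type*} [CommRing A] [Algebra R A] [CommRing B] [Algebra R B] (φ : A →ₐ[R] B)
    (H : Matrix (Fin n) (Fin n) A) : evM (H.map φ) = φ.comp (evM H) :=
  MvPolynomial.algHom_ext fun p => by simp [evM]

theorem IsSol.map {A B : Type*} [CommRing A] [Algebra R A] [CommRing B] [Algebra R B] (φ : A →ₐ[R] B)
    {H : Matrix (Fin n) (Fin n) A} (h : IsSol E H) : IsSol E (H.map φ) := fun k => by
  rw [evM_map, AlgHom.comp_apply, h k, map_zero]

/-- Solutions are maps out of the coordinate ring. -/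
def solEquiv (A : Type*) [CommRing A] [Algebra R A] :
    (coordRing E →ₐ[R] A) ≃ {H : Matrix (Fin n) (Fin n) A // IsSol E H} where
  toFun f := ⟨.of fun i j => f (Ideal.Quotient.mk _ (MvPolynomial.X (i, j))), fun k => by
    have : evM (.of fun i j => f (Ideal.Quotient.mk _ (MvPolynomial.X (i, j)))) = f.comp (Ideal.Quotient.mkₐ R _) :=
      MvPolynomial.algHom_ext fun p => by simp [evM]
    have h0 : Ideal.Quotient.mk (eqI E) (E k) = 0 :=
      Ideal.Quotient.eq_zero_iff_mem.2 (Ideal.subset_span (Set.mem_range_self k))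
    rw [this, AlgHom.comp_apply, Ideal.Quotient.mkₐ_eq_mk, h0, map_zero]⟩
  invFun H := Ideal.Quotient.liftₐ (eqI E) (evM H.1) fun x hx => by
    have : eqI E ≤ RingHom.ker (evM H.1) := Ideal.span_le.2 (by rintro _ ⟨k, rfl⟩; exact H.2 k)
    exact this hx
  left_inv f := Ideal.Quotient.algHom_ext R (MvPolynomial.algHom_ext fun p => by simp [evM])
  right_inv H := Subtype.ext (Matrix.ext fun i j => by simp [evM])

theorem finitePresentation [Finite κ] : Algebra.FinitePresentation R (coordRing E) :=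
  Algebra.FinitePresentation.quotient (Submodule.fg_span (Set.finite_range E))

/-- Formal smoothness by lifting solutions. -/
theorem formallySmooth_of_lift
    (hlift : ∀ (B : Type u) [CommRing B] [Algebra R B] (I : Ideal B), I ^ 2 = ⊥ →
      ∀ H : Matrix (Fin n) (Fin n) (B ⧸ I), IsSol E H →
        ∃ H' : Matrix (Fin n) (Fin n) B, IsSol E H' ∧ H'.map (Ideal.Quotient.mk I) = H) :
    Algebra.FormallySmooth R (coordRing E) := by
  rw [Algebra.FormallySmooth.iff_comp_surjective]
  intro B _ _ I hI f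
  obtain ⟨H', hs, hH'⟩ := hlift B I hI _ (solEquiv E _ f).2
  refine ⟨(solEquiv E B).symm ⟨H', hs⟩, (solEquiv E _).injective (Subtype.ext ?_)⟩
  rw [← hH']
  ext i j
  simp [solEquiv, evM]

theorem exists_lift [Algebra.FormallySmooth R (coordRing E)] {B C : Type u} [CommRing B] [Algebra R B] [CommRing C]
    [Algebra R C] (p : B →ₐ[R] C) (hp : Function.Surjective p) (hn : IsNilpotent (RingHom.ker p))
    (H : Matrix (Fin n) (Fin n) C) (hH : IsSol E H) :
    ∃ H' : Matrix (Fin n) (Fin n) B, IsSol E H' ∧ H'.map p = H := by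
  let f := (solEquiv E C).symm ⟨H, hH⟩
  refine ⟨(solEquiv E B (Algebra.FormallySmooth.liftOfSurjective f p hp hn)).1, (solEquiv E B _).2, ?_⟩
  have h1 : H = (solEquiv E C f).1 := by simp [f]
  rw [h1]
  ext i j
  exact Algebra.FormallySmooth.liftOfSurjective_apply f p hp hn _

section Linear

variable (S : ∀ (A : Type u) [CommRing A] [Algebra R A],
  Subgroup ((A ⊗[R] (Fin n → R)) ≃ₗ[A] (A ⊗[R] (Fin n → R))))

/-- The basis of `A ⊗ R^n`. -/
abbrev bA (R : Type u) [CommRing R] (n : ℕ) (A : Type u) [CommRing A] [Algebra R A] :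
    Module.Basis (Fin n) A (A ⊗[R] (Fin n → R)) :=
  (Pi.basisFun R (Fin n)).baseChange A

/-- The matrix of an automorphism. -/
abbrev mat {A : Type u} [CommRing A] [Algebra R A] (h : (A ⊗[R] (Fin n → R)) ≃ₗ[A] (A ⊗[R] (Fin n → R))) :
    Matrix (Fin n) (Fin n) A :=
  LinearMap.toMatrix (bA R n A) (bA R n A) h.toLinearMap

variable (hmem : ∀ (A : Type u) [CommRing A] [Algebra R A] (h : (A ⊗[R] (Fin n → R)) ≃ₗ[A] (A ⊗[R] (Fin n → R))),
  h ∈ S A ↔ IsSol E (mat h))
  (hunit : ∀ (A : Type u) [CommRing A] [Algebra R A] (H : Matrix (Fin n) (Fin n) A), IsSol E H → IsUnit H.det)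

include hmem hunit in
theorem exists_matEquiv (A : Type u) [CommRing A] [Algebra R A] :
    ∃ e : ↥(S A) ≃ {H : Matrix (Fin n) (Fin n) A // IsSol E H}, ∀ h, (e h).1 = mat h.1 := by
  refine ⟨Equiv.ofBijective (fun h => ⟨mat h.1, (hmem A h.1).1 h.2⟩) ⟨fun h h' hh => ?_, fun H => ?_⟩, fun h => rfl⟩
  · have := congrArg Subtype.val hh
    exact Subtype.ext (LinearEquiv.toLinearMap_injective ((LinearMap.toMatrix _ _).injective this))
  · let f := Matrix.toLin (bA R n A) (bA R n A) H.1
    have hu : IsUnit H.1 := (Matrix.isUnit_iff_isUnit_det _).2 (hunit A _ H.2)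
    obtain ⟨u, hu⟩ := hu
    let h : (A ⊗[R] (Fin n → R)) ≃ₗ[A] (A ⊗[R] (Fin n → R)) :=
      LinearEquiv.ofLinearMap f (Matrix.toLin (bA R n A) (bA R n A) (↑u⁻¹ : Matrix (Fin n) (Fin n) A))
        (by rw [← Matrix.toLin_mul, ← hu, Units.mul_inv, Matrix.toLin_one])
        (by rw [← Matrix.toLin_mul, ← hu, Units.inv_mul, Matrix.toLin_one])
    have hh : mat h = H.1 := LinearMap.toMatrix_toLin _ _ _
    exact ⟨⟨h, (hmem A h).2 (hh ▸ H.2)⟩, Subtype.ext hh⟩

variable {G : Over (Spec (CommRingCat.of R))} [GrpObj G] (D : LinRep R (Fin n → R) S G)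

include hmem hunit D in
theorem exists_iso : Nonempty (G ≅ GrassRep.pt R (coordRing E)) := by
  choose e he using exists_matEquiv E S hmem hunit
  have hal : ∀ (A : Type u) [CommRing A] [Algebra R A] (g : GrassRep.pt R A ⟶ GrassRep.pt R (coordRing E)),
      ∃ f : coordRing E →ₐ[R] A, GrassRep.Sp f = g.left := fun A _ _ g =>
    GrassRep.exists_algHom g.left (Over.w g)
  choose al hal using hal
  have hinj : ∀ (A : Type u) [CommRing A] [Algebra R A] (f f' : coordRing E →ₐ[R] A),
      GrassRep.Sp f = GrassRep.Sp f' → f = f' := fun A _ _ f f' hff =>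
    AlgHom.ext fun x => congrArg (fun k => k.hom x) (Spec.map_injective hff)
  let α : ∀ (A : Type u) [CommRing A] [Algebra R A],
      (GrassRep.pt R A ⟶ GrassRep.pt R (coordRing E)) ≃ (coordRing E →ₐ[R] A) := fun A _ _ =>
    { toFun := al A
      invFun := fun f => Over.homMk (GrassRep.Sp f) (GrassRep.Sp_str f)
      left_inv := fun g => Over.OverMorphism.ext (hal A g)
      right_inv := fun f => hinj A _ _ (hal A _) }
  let θ : ∀ (A : Type u) [CommRing A] [Algebra R A],
      (GrassRep.pt R A ⟶ GrassRep.pt R (coordRing E)) ≃ (GrassRep.pt R A ⟶ G) := fun A _ _ =>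
    ((α A).trans (solEquiv E A)).trans ((e A).symm.trans (D.pts A).symm.toEquiv)
  obtain ⟨Φ, -⟩ := GrassRep.exists_iso θ (by
    intro A B _ _ _ _ φ g g' hg'
    have hf : al B g' = φ.comp (al A g) := hinj B _ _ (by rw [hal, hg', GrassRep.Sp_comp, hal])
    show (θ B g').left = (QuadGrp.specOverMap R φ ≫ θ A g).left
    refine congrArg CommaMorphism.left ((D.pts B).injective (Subtype.ext ?_))
    refine LinearEquiv.toLinearMap_injective ((bA R n B).ext fun j => ?_)
    have e1 : (D.pts B) (θ B g') = (e B).symm (solEquiv E B (al B g')) := (D.pts B).apply_symm_apply _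
    have e2 : (D.pts A) (θ A g) = (e A).symm (solEquiv E A (al A g)) := (D.pts A).apply_symm_apply _
    have m1 : mat ((D.pts B) (θ B g')).1 = (solEquiv E B (al B g')).1 := by
      rw [e1, ← he, Equiv.apply_symm_apply]
    have m2 : mat ((D.pts A) (θ A g)).1 = (solEquiv E A (al A g)).1 := by
      rw [e2, ← he, Equiv.apply_symm_apply]
    simp only [LinearEquiv.coe_coe, Module.Basis.baseChange_apply]
    rw [D.natural A B φ (θ A g) (Pi.basisFun R (Fin n) j)]
    have c : ∀ (C : Type u) [CommRing C] [Algebra R C]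
        (h : (C ⊗[R] (Fin n → R)) ≃ₗ[C] (C ⊗[R] (Fin n → R))),
        h ((1 : C) ⊗ₜ[R] Pi.basisFun R (Fin n) j) = ∑ i, mat h i j ⊗ₜ[R] Pi.basisFun R (Fin n) i := by
      intro C _ _ h
      conv_lhs => rw [← (bA R n C).sum_repr (h ((1 : C) ⊗ₜ[R] Pi.basisFun R (Fin n) j))]
      refine Finset.sum_congr rfl fun i _ => ?_
      rw [mat, LinearMap.toMatrix_apply, Module.Basis.baseChange_apply, Module.Basis.baseChange_apply,
        TensorProduct.smul_tmul', smul_eq_mul, _root_.mul_one, LinearEquiv.coe_coe]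
    rw [c B, c A, map_sum, m1, m2, hf]
    exact Finset.sum_congr rfl fun i _ => rfl)
  exact ⟨Φ.symm⟩

include hmem hunit D in
theorem smooth_iff [Finite κ] : Smooth G.hom ↔ Algebra.FormallySmooth R (coordRing E) := by
  obtain ⟨Φ⟩ := exists_iso E S hmem hunit D
  have hiso : IsIso Φ.hom.left := inferInstanceAs (IsIso ((Over.forget _).map Φ.hom))
  have h1 : Smooth G.hom ↔ Smooth (Spec.map (CommRingCat.ofHom (algebraMap R (coordRing E)))) := by
    conv_lhs => rw [← Over.w Φ.hom]
    exact MorphismProperty.cancel_left_of_respectsIso @Smooth Φ.hom.left _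
  rw [h1, HasRingHomProperty.Spec_iff (P := @Smooth)]
  show (algebraMap R (coordRing E)).Smooth ↔ _
  rw [RingHom.smooth_algebraMap]
  exact ⟨fun h => h.formallySmooth, fun h => ⟨h, finitePresentation E⟩⟩

end Linear

end Groth.Agent.Lib.QuadGrp99.Rep
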