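import Groth.Agent.Lib.QuadGrp99.SplitFppf
import Groth.Agent.Lib.EtaleSection.Sections
import Mathlib.RingTheory.Smooth.Flat
import Mathlib.LinearAlgebra.Matrix.NonsingularInverse

/-!
# Regular forms of even rank split étale locally
-/

noncomputable section

open scoped Matrix TensorProduct
open CategoryTheory AlgebraicGeometry

universe u

namespace Groth.Agent.Lib.QuadGrp99.SplitEven

open QuadGrp HalfDisc OrthSmooth Rep Groth.Agent.Lib.QuadGrp99.Cliff

variable {n : ℕ}

/-- The quadratic form of a matrix. -/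
def qf {A : Type*} [CommRing A] (U : Matrix (Fin n) (Fin n) A) : QuadraticForm A (Fin n → A) :=
  LinearMap.BilinMap.toQuadraticMap (Matrix.toLinearMap₂' A U)

theorem qf_apply {A : Type*} [CommRing A] (U : Matrix (Fin n) (Fin n) A) (x : Fin n → A) :
    qf U x = x ⬝ᵥ (U *ᵥ x) := Matrix.toLinearMap₂'_apply' U x x

theorem polar_qf {A : Type*} [CommRing A] (U : Matrix (Fin n) (Fin n) A) (x y : Fin n → A) :
    QuadraticMap.polar (qf U) x y = x ⬝ᵥ ((U + Uᵀ) *ᵥ y) := by
  rw [qf, LinearMap.BilinMap.polar_toQuadraticMap, Matrix.toLinearMap₂'_apply', Matrix.toLinearMap₂'_apply',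
    Matrix.add_mulVec, dotProduct_add, Matrix.mulVec_transpose, dotProduct_comm x (y ᵥ* U),
    ← Matrix.dotProduct_mulVec]

theorem qf_eq_iff {A : Type*} [CommRing A] (U V : Matrix (Fin n) (Fin n) A) :
    (∀ x, x ⬝ᵥ (U *ᵥ x) = x ⬝ᵥ (V *ᵥ x)) ↔ aU U = aU V := by
  have hc : ∀ W : Matrix (Fin n) (Fin n) A, coeffs (Pi.basisFun A (Fin n)) (LinearEquiv.refl A A) (qf W) = aU W := by
    intro W
    rw [coeffs_eq (Pi.basisFun A (Fin n)) (qf W) (B := Matrix.toLinearMap₂' A W) fun x => rfl]
    congr 1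
    ext i j
    simp [LinearMap.toMatrix₂_apply, Matrix.toLinearMap₂'_apply']
  refine ⟨fun h => by rw [← hc, ← hc, show qf U = qf V from QuadraticMap.ext fun x => by rw [qf_apply, qf_apply, h]],
    fun h x => ?_⟩
  rw [← qf_apply, ← qf_apply, ext_coeffs (Pi.basisFun A (Fin n)) ((hc U).trans (h.trans (hc V).symm))]

theorem transpose_mul_dot {A : Type*} [CommRing A] (U g : Matrix (Fin n) (Fin n) A) (x : Fin n → A) :
    x ⬝ᵥ ((gᵀ * U * g) *ᵥ x) = (g *ᵥ x) ⬝ᵥ (U *ᵥ (g *ᵥ x)) := by
  rw [← Matrix.mulVec_mulVec, ← Matrix.mulVec_mulVec, Matrix.dotProduct_mulVec, Matrix.vecMul_transpose]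

variable {m : ℕ}

/-- The matrix of the split form. -/
def splitMat (A : Type*) [CommRing A] (m : ℕ) : Matrix (Fin (2 * m)) (Fin (2 * m)) A :=
  .of fun i j => if (j : ℕ) = i + m then 1 else 0

theorem splitMat_dot {A : Type*} [CommRing A] (x : Fin (2 * m) → A) :
    x ⬝ᵥ (splitMat A m *ᵥ x) = ∑ j : Fin m, x ⟨j, by omega⟩ * x ⟨m + j, by omega⟩ := by
  classical
  let e : Fin m ⊕ Fin m ≃ Fin (2 * m) := finSumFinEquiv.trans (finCongr (two_mul m).symm)
  rw [dotProduct, ← e.sum_comp, Fintype.sum_sum_type, Finset.sum_eq_zero (s := Finset.univ (α := Fin m))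
    (f := fun i => x (e (Sum.inr i)) * (splitMat A m *ᵥ x) (e (Sum.inr i))), add_zero]
  · refine Finset.sum_congr rfl fun j _ => ?_
    have h1 : (splitMat A m *ᵥ x) (e (Sum.inl j)) = x ⟨m + j, by omega⟩ := by
      rw [Matrix.mulVec, dotProduct, Finset.sum_eq_single (⟨m + j, by omega⟩ : Fin (2 * m))]
      · simp [splitMat, e, add_comm]
      · intro b _ hb
        simp only [Matrix.of_apply, splitMat, e, Equiv.trans_apply, finSumFinEquiv_apply_left, finCongr_apply_coe,
          Fin.val_castAdd]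
        rw [if_neg fun h => hb (Fin.ext (by simp; omega)), zero_mul]
      · simp
    rw [h1]
    rfl
  · intro i _
    rw [Matrix.mulVec, dotProduct, Finset.sum_eq_zero fun b _ => ?_, mul_zero]
    simp only [Matrix.of_apply, splitMat, e, Equiv.trans_apply, finSumFinEquiv_apply_right, finCongr_apply_coe,
      Fin.val_natAdd]
    rw [if_neg (by omega), zero_mul]

theorem splitMat_map {A B : Type*} [CommRing A] [CommRing B] (f : A →+* B) :
    (splitMat A m).map f = splitMat B m := by
  ext i j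
  simp only [Matrix.map_apply, splitMat, Matrix.of_apply]
  split_ifs <;> simp

theorem exists_field (K : Type u) [Field K] [IsAlgClosed K] (U : Matrix (Fin (2 * m)) (Fin (2 * m)) K)
    (hP : IsUnit (U + Uᵀ).det) :
    ∃ g : Matrix (Fin (2 * m)) (Fin (2 * m)) K, aU (gᵀ * U * g) = aU (splitMat K m) := by
  have hreg : QuadGrp.IsRegular (qf U) := by
    have e : ∀ x y, QuadraticMap.polarBilin (qf U) x y = (x ᵥ* (U + Uᵀ)) ⬝ᵥ y := fun x y => by
      rw [QuadraticMap.polarBilin_apply_apply, polar_qf, Matrix.dotProduct_mulVec]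
    refine ⟨fun x y hxy => Matrix.vecMul_injective_iff_isUnit.2 ((Matrix.isUnit_iff_isUnit_det _).2 hP)
      (funext fun i => ?_), fun f => ?_⟩
    · have := LinearMap.congr_fun hxy (Pi.single i 1)
      rwa [e, e, dotProduct_single_one, dotProduct_single_one] at this
    · obtain ⟨x, hx⟩ := Matrix.vecMul_surjective_iff_isUnit.2 ((Matrix.isUnit_iff_isUnit_det _).2 hP)
        fun i => f (Pi.single i 1)
      refine ⟨x, (Pi.basisFun K (Fin (2 * m))).ext fun i => ?_⟩
      rw [Pi.basisFun_apply, e, dotProduct_single_one]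
      exact congrFun hx i
  obtain ⟨P⟩ := Cliff.exists_pairs (show InfRes K from ⟨Infinite.natEmbedding K, fun i j hij =>
    isUnit_iff_ne_zero.2 (sub_ne_zero.2 fun h => hij ((Infinite.natEmbedding K).injective h))⟩) hreg m
    (Module.finrank_fin_fun K) m le_rfl
  choose p p' hp using fun i => SplitFppf.binary (P.c i : K) (qf U (P.f i)) (P.c i).ne_zero
    (by rw [← P.qe, P.disc]; exact (P.d i).ne_zero)
  let y : (Fin (2 * m) → K) →ₗ[K] (Fin m → K × K) := LinearMap.pi fun i =>
    (LinearMap.proj (⟨i, by omega⟩ : Fin (2 * m))).smulRight (p i) +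
      (LinearMap.proj (⟨m + i, by omega⟩ : Fin (2 * m))).smulRight (p' i)
  let L := P.comb.comp y
  have hL : ∀ x, qf U (L x) = x ⬝ᵥ (splitMat K m *ᵥ x) := fun x => by
    rw [splitMat_dot]
    show qf U (P.comb (y x)) = _
    rw [P.comb_apply, ← Finset.sum_add_distrib, QuadraticMap.map_sum]
    have e3 : ∀ i j, i ≠ j → QuadraticMap.polar (qf U) ((y x i).1 • P.e i + (y x i).2 • P.f i)
        ((y x j).1 • P.e j + (y x j).2 • P.f j) = 0 := fun i j hij => by
      simp only [QuadraticMap.polar_add_left, QuadraticMap.polar_add_right, QuadraticMap.polar_smul_left,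
        QuadraticMap.polar_smul_right, P.ee i j hij, P.ff i j hij, P.ef i j hij,
        QuadraticMap.polar_comm (qf U) (P.f i) (P.e j), P.ef j i hij.symm, smul_zero, add_zero]
    rw [Finset.sum_eq_zero (s := Finset.filter _ _), add_zero]
    · refine Finset.sum_congr rfl fun i _ => ?_
      rw [QuadraticMap.map_add (qf U), QuadraticMap.map_smul, QuadraticMap.map_smul, P.qe,
        QuadraticMap.polar_smul_left, QuadraticMap.polar_smul_right, P.pol]
      simp only [y, LinearMap.pi_apply, LinearMap.add_apply, LinearMap.smulRight_apply, Prod.fst_add,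
        Prod.snd_add, Prod.smul_fst, Prod.smul_snd, smul_eq_mul, mul_one, LinearMap.proj_apply]
      linear_combination hp i (x ⟨i, by omega⟩) (x ⟨m + i, by omega⟩)
    · intro s hs
      induction s using Sym2.ind with
      | h i j =>
        simp only [Finset.mem_filter, Sym2.mk_isDiag_iff] at hs
        simp only [Sym2.map_mk, QuadraticMap.polarSym2_sym2Mk, e3 i j hs.2]
  refine ⟨LinearMap.toMatrix' L, (qf_eq_iff _ _).1 fun x => ?_⟩
  rw [transpose_mul_dot, LinearMap.toMatrix'_mulVec, ← qf_apply, hL]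

variable {A : Type u} [CommRing A] (U : Matrix (Fin (2 * m)) (Fin (2 * m)) A) (hU : IsUnit (U + Uᵀ).det)

/-- The equations of the splittings. -/
def eqSplit (s : Sym2 (Fin (2 * m))) : MvPolynomial (Fin (2 * m) × Fin (2 * m)) A :=
  aU ((gen A (2 * m))ᵀ * U.map MvPolynomial.C * gen A (2 * m)) s - MvPolynomial.C (aU (splitMat A m) s)

theorem isSol_eqSplit {B : Type u} [CommRing B] [Algebra A B] (g : Matrix (Fin (2 * m)) (Fin (2 * m)) B) :
    IsSol (eqSplit U) g ↔ aU (gᵀ * U.map (algebraMap A B) * g) = aU (splitMat B m) := by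
  have e : ∀ s, evM g (eqSplit U s) = aU (gᵀ * U.map (algebraMap A B) * g) s - aU (splitMat B m) s := fun s => by
    rw [eqSplit, map_sub]
    congr 1
    · refine (aU_map (evM g).toRingHom _ s).trans ?_
      congr 1
      rw [Matrix.map_mul, Matrix.map_mul, Matrix.transpose_map, Matrix.map_map]
      have e1 : (gen A (2 * m)).map (evM g).toRingHom = g := by ext i j; simp [gen, evM]
      rw [e1]
      congr 2
      ext i j
      simp [evM]
    · rw [← splitMat_map (algebraMap A B), ← aU_map]; simp [evM]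
  simp only [IsSol, e, sub_eq_zero, funext_iff]

theorem polar_transform {B : Type*} [CommRing B] {W V g : Matrix (Fin n) (Fin n) B} (h : aU (gᵀ * W * g) = aU V) :
    gᵀ * (W + Wᵀ) * g = V + Vᵀ := by
  rw [← transpose_eq_of_aU h, Matrix.transpose_mul, Matrix.transpose_mul, Matrix.transpose_transpose,
    Matrix.mul_add, Matrix.add_mul, ← Matrix.mul_assoc]

theorem isUnit_det_splitMat (B : Type*) [CommRing B] : IsUnit (splitMat B m + (splitMat B m)ᵀ).det := by
  classical
  let σ : Fin (2 * m) → Fin (2 * m) := fun i =>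
    if h : (i : ℕ) < m then ⟨i + m, by omega⟩ else ⟨i - m, by omega⟩
  have hσv : ∀ i, ((σ i : Fin (2 * m)) : ℕ) = if (i : ℕ) < m then (i : ℕ) + m else (i : ℕ) - m := fun i => by
    simp only [σ]; split_ifs <;> rfl
  have hσ : ∀ i, σ (σ i) = i := fun i => by
    have := i.isLt
    apply Fin.ext
    rw [hσv, hσv]
    split_ifs <;> omega
  have hJ : ∀ i j, (splitMat B m + (splitMat B m)ᵀ) i j = if σ i = j then 1 else 0 := fun i j => by
    simp only [Matrix.add_apply, Matrix.transpose_apply, splitMat, Matrix.of_apply, Fin.ext_iff, hσv]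
    split_ifs <;> first | omega | simp
  refine IsUnit.of_mul_eq_one (splitMat B m + (splitMat B m)ᵀ).det ?_
  rw [← Matrix.det_mul, show (splitMat B m + (splitMat B m)ᵀ) * (splitMat B m + (splitMat B m)ᵀ) = 1 from ?_,
    Matrix.det_one]
  ext i k
  rw [Matrix.mul_apply, Finset.sum_eq_single (σ i) (fun b _ hb => by rw [hJ, if_neg (Ne.symm hb), zero_mul]) (by simp),
    hJ, hJ, if_pos rfl, one_mul, hσ, Matrix.one_apply]

include hU in
theorem smooth_split : Algebra.Smooth A (coordRing (eqSplit U)) := by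
  haveI := Rep.finitePresentation (eqSplit U)
  refine ⟨formallySmooth_of_lift _ fun B _ _ I hI H hH => ?_, inferInstance⟩
  choose H' hH' using fun i j => Ideal.Quotient.mk_surjective (H i j)
  have hmap : (Matrix.of H').map (Ideal.Quotient.mk I) = H := by ext i j; exact hH' i j
  set W := (Matrix.of H')ᵀ * U.map (algebraMap A B) * Matrix.of H'
  have hsol := (isSol_eqSplit U H).1 hH
  have hdef : ∀ s, aU (splitMat B m) s - aU W s ∈ I := fun s => Ideal.Quotient.eq_zero_iff_mem.1 (by
    rw [map_sub, aU_map, aU_map, splitMat_map, Matrix.map_mul, Matrix.map_mul, Matrix.transpose_map, hmap,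
      show (U.map (algebraMap A B)).map (Ideal.Quotient.mk I) = U.map (algebraMap A (B ⧸ I)) by ext a b; rfl,
      hsol, sub_self])
  have hW : IsUnit (W + Wᵀ).det := by
    suffices hu : IsUnit (Ideal.Quotient.mk I (W + Wᵀ).det) by
      obtain ⟨v, hv⟩ := hu.exists_right_inv
      obtain ⟨v, rfl⟩ := Ideal.Quotient.mk_surjective v
      rw [← map_mul, ← map_one (Ideal.Quotient.mk I), Ideal.Quotient.eq] at hv
      have := Ideal.mul_mem_mul hv hv
      rw [← pow_two, hI, Ideal.mem_bot] at this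
      exact IsUnit.of_mul_eq_one (v * (2 - (W + Wᵀ).det * v)) (by linear_combination -this)
    have hWmap : W.map (Ideal.Quotient.mk I) = Hᵀ * U.map (algebraMap A (B ⧸ I)) * H := by
      rw [Matrix.map_mul, Matrix.map_mul, Matrix.transpose_map, hmap]
      congr 2
    rw [RingHom.map_det, RingHom.mapMatrix_apply, Matrix.map_add _ (map_add _), Matrix.transpose_map, hWmap,
      transpose_eq_of_aU hsol]
    exact isUnit_det_splitMat _
  set D := upper (fun s => aU (splitMat B m) s - aU W s)
  set X := (W + Wᵀ)⁻¹ * D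
  have hX : ∀ i j, X i j ∈ I := fun i j => by
    show ((W + Wᵀ)⁻¹ * D) i j ∈ I
    rw [Matrix.mul_apply]; exact Ideal.sum_mem _ fun k _ => Ideal.mul_mem_left _ _ (upper_mem hdef k j)
  refine ⟨Matrix.of H' * (1 + X), (isSol_eqSplit U _).2 ?_, (map_one_add hX).trans hmap⟩
  have e : (Matrix.of H' * (1 + X))ᵀ * U.map (algebraMap A B) * (Matrix.of H' * (1 + X)) = (1 + X)ᵀ * W * (1 + X) := by
    simp only [W, Matrix.transpose_mul, Matrix.mul_assoc]
  have h3 := step hI W 1 X (fun s => by simp) hX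
  rw [Matrix.one_mul, Matrix.transpose_one, Matrix.one_mul, Matrix.mul_one] at h3
  rw [e, h3, ← Matrix.mul_assoc, Matrix.mul_nonsing_inv _ hW, Matrix.one_mul, aU_upper]
  funext s
  simp

include hU in
theorem surjective_comap : Function.Surjective (PrimeSpectrum.comap (algebraMap A (coordRing (eqSplit U)))) := by
  intro P
  let K := AlgebraicClosure P.asIdeal.ResidueField
  obtain ⟨g, hg⟩ := exists_field K (U.map (algebraMap A K)) (by
    rw [← Matrix.transpose_map, ← Matrix.map_add _ (map_add _), ← RingHom.mapMatrix_apply, ← RingHom.map_det]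
    exact hU.map _)
  let f : coordRing (eqSplit U) →ₐ[A] K := (solEquiv (eqSplit U) K).symm ⟨g, (isSol_eqSplit U g).2 hg⟩
  refine ⟨⟨RingHom.ker f.toRingHom, RingHom.ker_isPrime _⟩, PrimeSpectrum.ext ?_⟩
  show (RingHom.ker f.toRingHom).comap (algebraMap A (coordRing (eqSplit U))) = P.asIdeal
  rw [RingHom.comap_ker, show f.toRingHom.comp (algebraMap A (coordRing (eqSplit U))) = algebraMap A K from
      RingHom.ext f.commutes, IsScalarTower.algebraMap_eq A P.asIdeal.ResidueField K,
    RingHom.ker_comp_of_injective _ (RingHom.injective _), Ideal.ker_algebraMap_residueField]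

theorem isUnit_det_of_sol {B : Type u} [CommRing B] [Algebra A B] {g : Matrix (Fin (2 * m)) (Fin (2 * m)) B}
    (h : IsSol (eqSplit U) g) : IsUnit g.det := by
  have h1 := congrArg Matrix.det (polar_transform ((isSol_eqSplit U g).1 h))
  have h2 := isUnit_det_splitMat (m := m) B
  rw [← h1, Matrix.det_mul] at h2
  exact isUnit_of_mul_isUnit_right h2

include hU in
/-- Faithfully flat finitely presented splitting. -/
theorem exists_fppf : ∃ (B : Type u) (_ : CommRing B) (_ : Algebra A B), Module.FaithfullyFlat A B ∧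
    Algebra.FinitePresentation A B ∧ ∃ g : Matrix (Fin (2 * m)) (Fin (2 * m)) B, IsUnit g.det ∧
      aU (gᵀ * U.map (algebraMap A B) * g) = aU (splitMat B m) := by
  haveI := smooth_split U hU
  let S := coordRing (eqSplit U)
  refine ⟨S, inferInstance, inferInstance, Module.FaithfullyFlat.of_comap_surjective (surjective_comap U hU),
    inferInstance, (solEquiv (eqSplit U) S (AlgHom.id A S)).1, ?_, (isSol_eqSplit U _).1 (solEquiv _ S _).2⟩
  exact isUnit_det_of_sol U (solEquiv (eqSplit U) S (AlgHom.id A S)).2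

include hU in
/-- Étale local splittings. -/
theorem exists_etale : ∃ (N : ℕ) (B : Fin N → Type u) (_ : ∀ t, CommRing (B t)) (_ : ∀ t, Algebra A (B t)),
    (∀ t, Algebra.Etale A (B t)) ∧
    (∀ p : PrimeSpectrum A, ∃ (t : Fin N) (q : PrimeSpectrum (B t)),
      q.asIdeal.comap (algebraMap A (B t)) = p.asIdeal) ∧
    ∀ t, ∃ g : Matrix (Fin (2 * m)) (Fin (2 * m)) (B t), IsUnit g.det ∧
      aU (gᵀ * U.map (algebraMap A (B t)) * g) = aU (splitMat (B t) m) := by
  classical
  haveI := smooth_split U hU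
  let S := coordRing (eqSplit U)
  let f := Spec.map (CommRingCat.ofHom (algebraMap A S))
  haveI : AlgebraicGeometry.Smooth f := (HasRingHomProperty.Spec_iff (P := @AlgebraicGeometry.Smooth)).2
    (RingHom.smooth_algebraMap.2 inferInstance)
  have key : ∀ p : PrimeSpectrum A, ∃ (B : Type u) (_ : CommRing B) (_ : Algebra A B), Algebra.Etale A B ∧
      Nonempty (S →ₐ[A] B) ∧ p ∈ Set.range (PrimeSpectrum.comap (algebraMap A B)) := by
    intro p
    obtain ⟨x, hx⟩ := surjective_comap U hU p
    obtain ⟨S', g, s', hg, hgs, h, hh⟩ := EtaleSection.Sections.exists_etale_section f x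
    obtain ⟨_, ⟨W, hW, rfl⟩, hsW, -⟩ := S'.isBasis_affineOpens.exists_subset_of_mem_open (Set.mem_univ s') isOpen_univ
    let j := hW.fromSpec ≫ g
    let φ := Spec.preimage j
    let ψ := Spec.preimage (hW.fromSpec ≫ h)
    haveI : AlgebraicGeometry.Etale g := hg
    have hφe : φ.hom.Etale := (HasRingHomProperty.Spec_iff (P := @AlgebraicGeometry.Etale)).1
      (by rw [Spec.map_preimage]; exact inferInstanceAs (AlgebraicGeometry.Etale (hW.fromSpec ≫ g)))
    letI : Algebra A Γ(S', W) := φ.hom.toAlgebra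
    have hψ : CommRingCat.ofHom (algebraMap A S) ≫ ψ = φ := Spec.map_injective (by
      rw [Spec.map_comp, Spec.map_preimage, Spec.map_preimage, Category.assoc, hh])
    refine ⟨Γ(S', W), inferInstance, inferInstance, hφe, ⟨{ ψ.hom with commutes' := fun a => ?_ }⟩,
      hW.primeIdealOf ⟨s', hsW⟩, ?_⟩
    · exact congrArg (fun k : CommRingCat.of A ⟶ Γ(S', W) => k.hom a) hψ
    · show Spec.map φ (hW.primeIdealOf ⟨s', hsW⟩) = p
      rw [Spec.map_preimage, Scheme.Hom.comp_apply, hW.fromSpec_primeIdealOf ⟨s', hsW⟩, hgs]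
      exact hx
  choose B iB iA hB hψ hp using key
  have hopen : ∀ p, IsOpen (Set.range (PrimeSpectrum.comap (algebraMap A (B p)))) := fun p => by
    haveI := hB p
    exact (PrimeSpectrum.isOpenMap_comap_of_hasGoingDown_of_finitePresentation (R := A) (S := B p)).isOpen_range
  obtain ⟨t, ht⟩ := isCompact_univ.elim_finite_subcover _ hopen (fun p _ => Set.mem_iUnion.2 ⟨p, hp p⟩)
  let e := t.equivFin
  refine ⟨t.card, fun i => B (e.symm i).1, fun i => iB _, fun i => iA _, fun i => hB _, fun p => ?_, fun i => ?_⟩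
  · obtain ⟨q, hq, hpq⟩ := Set.mem_iUnion₂.1 (ht (Set.mem_univ p))
    obtain ⟨i, rfl⟩ : ∃ i, (e.symm i).1 = q := ⟨e ⟨q, hq⟩, by rw [Equiv.symm_apply_apply]⟩
    obtain ⟨r, hr⟩ := hpq
    exact ⟨i, r, congrArg PrimeSpectrum.asIdeal hr⟩
  · obtain ⟨ψ⟩ := hψ (e.symm i).1
    exact ⟨_, isUnit_det_of_sol U (solEquiv (eqSplit U) _ ψ).2, (isSol_eqSplit U _).1 (solEquiv _ _ ψ).2⟩

end Groth.Agent.Lib.QuadGrp99.SplitEven
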