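import Groth.Agent.Lib.QuadGrp99.Cliff.Group.Smooth
import Groth.Agent.H21.SmoothRed
import Mathlib.RingTheory.Flat.TorsionFree
import Mathlib.LinearAlgebra.Matrix.Permutation
import Mathlib.RingTheory.RingHom.Flat
import Mathlib.AlgebraicGeometry.Morphisms.Flat
import Mathlib.Data.ZMod.Basic
import Mathlib.Algebra.Field.ZMod
import Mathlib.Algebra.Algebra.ZMod

/-!
# The naive special orthogonal group of the split even form over the integers
-/

noncomputable section

open CliffordAlgebra TensorProduct CategoryTheory AlgebraicGeometry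
open scoped Matrix

universe u

namespace Groth.Agent.Lib.QuadGrp99.SplitSO

open Groth.Agent.Lib.QuadGrp99 Groth.Agent.Lib.QuadGrp99.Cliff Groth.Agent.Lib.QuadGrp99.Cliff.Group

theorem split_apply (R : Type u) [CommRing R] (m : ℕ) (x : Fin (2 * m) → R) :
    QuadGrp.splitForm R (2 * m) x = ∑ i : Fin m, x ⟨2 * i, by omega⟩ * x ⟨2 * i + 1, by omega⟩ := by
  simp only [QuadGrp.splitForm, QuadraticMap.add_apply, QuadraticMap.sum_apply, QuadraticMap.linMulLin_apply,
    LinearMap.proj_apply]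
  rw [dif_neg (by omega)]
  simp only [QuadraticMap.zero_apply, add_zero]
  refine Fintype.sum_equiv (finCongr (by omega)) _ _ fun i => ?_
  congr 2 <;> (apply Fin.ext; simp) <;> omega

variable (R : Type u) [CommRing R] (m : ℕ)

/-- The even basis vectors. -/
def aV (i : Fin m) : Fin (2 * m) → R := fun k => if (k : ℕ) = 2 * i then 1 else 0

/-- The odd basis vectors. -/
def bV (i : Fin m) : Fin (2 * m) → R := fun k => if (k : ℕ) = 2 * i + 1 then 1 else 0

theorem polar_split (x y : Fin (2 * m) → R) : QuadraticMap.polar (QuadGrp.splitForm R (2 * m)) x y =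
    ∑ i : Fin m, (x ⟨2 * i, by omega⟩ * y ⟨2 * i + 1, by omega⟩ + y ⟨2 * i, by omega⟩ * x ⟨2 * i + 1, by omega⟩) := by
  rw [QuadraticMap.polar, split_apply, split_apply, split_apply, ← Finset.sum_sub_distrib, ← Finset.sum_sub_distrib]
  exact Finset.sum_congr rfl fun i _ => by simp only [Pi.add_apply]; ring

variable {R} in
theorem aV_even (i k : Fin m) : aV R m i ⟨2 * k, by omega⟩ = if k = i then 1 else 0 := by
  simp only [aV]
  exact if_congr (by rw [Fin.ext_iff]; omega) rfl rfl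

variable {R} in
theorem aV_odd (i k : Fin m) : aV R m i ⟨2 * k + 1, by omega⟩ = 0 := by
  simp only [aV]
  exact if_neg (by omega)

variable {R} in
theorem bV_even (i k : Fin m) : bV R m i ⟨2 * k, by omega⟩ = 0 := by
  simp only [bV]
  exact if_neg (by omega)

variable {R} in
theorem bV_odd (i k : Fin m) : bV R m i ⟨2 * k + 1, by omega⟩ = if k = i then 1 else 0 := by
  simp only [bV]
  exact if_congr (by rw [Fin.ext_iff]; omega) rfl rfl

theorem exists_splitting : ∃ z : CliffordAlgebra (QuadGrp.splitForm R (2 * m)),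
    IsSplit (QuadGrp.splitForm R (2 * m)) z := by
  classical
  rcases subsingleton_or_nontrivial R with hR | hR
  · haveI := Module.subsingleton R (CliffordAlgebra (QuadGrp.splitForm R (2 * m)))
    exact ⟨0, zero_mem _, fun v => Subsingleton.elim _ _, by simp⟩
  let q := QuadGrp.splitForm R (2 * m)
  have qa : ∀ i, q (aV R m i) = 0 := fun i => by simp [q, split_apply, aV_odd]
  have qb : ∀ i, q (bV R m i) = 0 := fun i => by simp [q, split_apply, bV_even]
  have paa : ∀ i j, QuadraticMap.polar q (aV R m i) (aV R m j) = 0 := fun i j => by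
    simp [q, polar_split, aV_odd]
  have pbb : ∀ i j, QuadraticMap.polar q (bV R m i) (bV R m j) = 0 := fun i j => by
    simp [q, polar_split, bV_even]
  have pab : ∀ i j, QuadraticMap.polar q (aV R m i) (bV R m j) = if i = j then 1 else 0 := fun i j => by
    simp [q, polar_split, aV_even, aV_odd, bV_even, bV_odd, eq_comm]
  have pba : ∀ i j, QuadraticMap.polar q (bV R m i) (aV R m j) = if i = j then 1 else 0 := fun i j => by
    rw [QuadraticMap.polar_comm, pab]
    simp [eq_comm]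
  let P : Pairs q m :=
    { e := fun i => aV R m i + bV R m i
      f := fun i => bV R m i
      c := fun _ => 1
      d := fun _ => -1
      qe := fun i => by rw [QuadraticMap.map_add q, qa, qb, pab]; simp
      pol := fun i => by rw [QuadraticMap.polar_add_left, pab, pbb]; simp
      disc := fun i => by rw [qb]; simp
      ee := fun i j h => by
        simp [QuadraticMap.polar_add_left, QuadraticMap.polar_add_right, paa, pbb, pab, pba, h]
      ef := fun i j h => by simp [QuadraticMap.polar_add_left, pbb, pab, h]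
      ff := fun i j h => pbb i j }
  obtain ⟨z1, z2, -, z4⟩ := P.zel_props m le_rfl
  refine ⟨_, z1, fun v => ?_, z2⟩
  have hv : v = ∑ i : Fin m, (v ⟨2 * i, by omega⟩ • P.e i +
      (v ⟨2 * i + 1, by omega⟩ - v ⟨2 * i, by omega⟩) • P.f i) := by
    funext k
    obtain ⟨k, hk⟩ := k
    simp only [P, Finset.sum_apply, Pi.add_apply, Pi.smul_apply, smul_eq_mul]
    rcases Nat.even_or_odd k with ⟨l, hl⟩ | ⟨l, hl⟩
    · obtain rfl : k = 2 * l := by omega
      have ea := fun x => aV_even (R := R) m x ⟨l, by omega⟩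
      have eb := fun x => bV_even (R := R) m x ⟨l, by omega⟩
      simp only at ea eb
      simp [ea, eb, Finset.sum_add_distrib]
    · obtain rfl : k = 2 * l + 1 := by omega
      have ea := fun x => aV_odd (R := R) m x ⟨l, by omega⟩
      have eb := fun x => bV_odd (R := R) m x ⟨l, by omega⟩
      simp only at ea eb
      simp [ea, eb, Finset.sum_add_distrib]
  rw [hv]
  simp only [map_sum, map_add, map_smul, Finset.mul_sum, Finset.sum_mul, mul_add, add_mul, mul_smul_comm, smul_mul_assoc]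
  refine Finset.sum_congr rfl fun i _ => ?_
  obtain ⟨h1, h2⟩ := z4 i i.isLt
  exact congrArg₂ (fun a b => v ⟨2 * (i : ℕ), by omega⟩ • a + (v ⟨2 * (i : ℕ) + 1, by omega⟩ - v ⟨2 * (i : ℕ), by omega⟩) • b) h1 h2

variable {R}

theorem regular_split : QuadGrp.IsRegular (QuadGrp.splitForm R (2 * m)) := by
  classical
  rcases subsingleton_or_nontrivial R with hR | hR
  · haveI := Module.subsingleton R (Fin (2 * m) → R)
    exact ⟨fun _ _ _ => Subsingleton.elim _ _, fun f => ⟨0, LinearMap.ext fun v => Subsingleton.elim _ _⟩⟩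
  have key := polar_split R m
  let sw : Fin (2 * m) → Fin (2 * m) := fun k =>
    if h : (k : ℕ) % 2 = 0 then ⟨k + 1, by omega⟩ else ⟨k - 1, by omega⟩
  have key2 : ∀ x k, QuadraticMap.polar (QuadGrp.splitForm R (2 * m)) x (Pi.single k 1) = x (sw k) := fun x k => by
    rw [key]
    obtain ⟨k, hk⟩ := k
    rcases Nat.even_or_odd k with ⟨l, hl⟩ | ⟨l, hl⟩
    · rw [Finset.sum_eq_single ⟨l, by omega⟩]
      · obtain rfl : k = 2 * l := by omega
        simp [Pi.single_apply, sw, Fin.ext_iff]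
      · intro i _ hi
        have : (i : ℕ) ≠ l := fun e => hi (Fin.ext e)
        rw [Pi.single_eq_of_ne (by simp [Fin.ext_iff]; omega), Pi.single_eq_of_ne (by simp [Fin.ext_iff]; omega)]
        simp
      · simp
    · rw [Finset.sum_eq_single ⟨l, by omega⟩]
      · obtain rfl : k = 2 * l + 1 := by omega
        simp [Pi.single_apply, sw, Fin.ext_iff]
      · intro i _ hi
        have : (i : ℕ) ≠ l := fun e => hi (Fin.ext e)
        rw [Pi.single_eq_of_ne (by simp [Fin.ext_iff]; omega), Pi.single_eq_of_ne (by simp [Fin.ext_iff]; omega)]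
        simp
      · simp
  have hsw : ∀ k, sw (sw k) = k := fun k => by
    obtain ⟨k, hk⟩ := k
    rcases Nat.even_or_odd k with ⟨l, hl⟩ | ⟨l, hl⟩
    · simp only [sw]
      rw [dif_neg] <;> split_ifs <;> simp [Fin.ext_iff] <;> omega
    · simp only [sw]
      rw [dif_pos] <;> split_ifs <;> simp [Fin.ext_iff] <;> omega
  refine ⟨fun x y h => funext fun k => ?_, fun f => ⟨fun k => f (Pi.single (sw k) 1), ?_⟩⟩
  · have := LinearMap.congr_fun h (Pi.single (sw k) 1)
    rwa [QuadraticMap.polarBilin_apply_apply, QuadraticMap.polarBilin_apply_apply, key2, key2, hsw] at this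
  · refine (Pi.basisFun R (Fin (2 * m))).ext fun k => ?_
    rw [QuadraticMap.polarBilin_apply_apply, Pi.basisFun_apply, key2, hsw]

variable (z : CliffordAlgebra (QuadGrp.splitForm R (2 * m)))
  (hz : IsSplit (QuadGrp.splitForm R (2 * m)) z) {A : Type u} [CommRing A] [Algebra R A]

local notation "Q₀" => QuadGrp.splitForm R (2 * m)

include hz in
theorem isSplit_toBC : IsSplit (QA A Q₀) (toBC A Q₀ z) := by
  refine ⟨toBC_mem_evenOdd A Q₀ 0 z hz.even, fun v => ?_, ?_⟩
  · induction v using TensorProduct.induction_on with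
    | zero => simp
    | add a b ha hb => simp only [map_add, mul_add, add_mul, ha, hb]
    | tmul a v => rw [ι_tmul, mul_smul_comm, smul_mul_assoc, ← map_one (toBC A Q₀), ← map_sub, ← map_mul, ← map_mul,
        hz.swap]
  · have := hz.unit.map (toBC A Q₀)
    rwa [map_sub, map_one, map_mul, map_ofNat] at this

/-- The Dickson coordinate, on a lift of the matrix. -/
def dickson (g : (A ⊗[R] (Fin (2 * m) → R)) ≃ₗ[A] (A ⊗[R] (Fin (2 * m) → R)))
    (hg : g ∈ QuadGrp.O (QA A Q₀)) : A :=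
  phiA Q₀ A ((CliffordAlgebra.map (QuadGrp.isometryOfMem (QA A Q₀) g hg) (toBC A Q₀ z) - toBC A Q₀ z) *
    toBC A Q₀ (Ring.inverse (1 - 2 * z)))

include hz in
theorem dickson_local (hm : 1 ≤ m) [IsLocalRing A] (g : (A ⊗[R] (Fin (2 * m) → R)) ≃ₗ[A] (A ⊗[R] (Fin (2 * m) → R)))
    (hg : g ∈ QuadGrp.O (QA A Q₀)) :
    (dickson m z g hg = 0 ∧ LinearMap.det g.toLinearMap = 1) ∨
      (dickson m z g hg = 1 ∧ LinearMap.det g.toLinearMap = -1) := by
  have hzA := isSplit_toBC m z hz (A := A)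
  have hR := regular_QA A Q₀ (regular_split m)
  have hfr := finrank_bA (R := R) (n := 2 * m) A
  rcases dichotomy (R := A) (M := A ⊗[R] (Fin (2 * m) → R)) hR m hfr g hg with ⟨h1, h2⟩ | ⟨h1, -, h3⟩
  · refine Or.inl ⟨?_, h1⟩
    rw [dickson, (trivial_iff_fix (R := A) (M := A ⊗[R] (Fin (2 * m) → R)) hR m hfr g hg hzA).1 h2, sub_self,
      zero_mul, map_zero]
  · refine Or.inr ⟨?_, h1⟩
    rw [dickson, h3 _ hzA, show (1 - toBC A Q₀ z - toBC A Q₀ z : CC Q₀ A) = toBC A Q₀ (1 - 2 * z) by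
      rw [map_sub, map_one, map_mul, map_ofNat]; noncomm_ring, ← map_mul, Ring.mul_inverse_cancel _ hz.unit, map_one,
      ← map_one (algebraMap A (CC Q₀ A)), phiA_algebraMap]

theorem dickson_natural {B : Type u} [CommRing B] [Algebra R B] (φ : A →ₐ[R] B)
    (g : (A ⊗[R] (Fin (2 * m) → R)) ≃ₗ[A] (A ⊗[R] (Fin (2 * m) → R))) (hg : g ∈ QuadGrp.O (QA A Q₀))
    (g' : (B ⊗[R] (Fin (2 * m) → R)) ≃ₗ[B] (B ⊗[R] (Fin (2 * m) → R))) (hg' : g' ∈ QuadGrp.O (QA B Q₀))
    (hgg : Rep.mat g' = (Rep.mat g).map φ) :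
    φ (dickson m z g hg) = dickson m z g' hg' := by
  have key : ((F Q₀ φ).comp ((CliffordAlgebra.map (QuadGrp.isometryOfMem (QA A Q₀) g hg)).toRingHom.comp
      (toBC A Q₀).toRingHom)) =
      (CliffordAlgebra.map (QuadGrp.isometryOfMem (QA B Q₀) g' hg')).toRingHom.comp (toBC B Q₀).toRingHom := by
    refine RingHom.ext fun x => ?_
    show F Q₀ φ (CliffordAlgebra.map _ (toBC A Q₀ x)) = CliffordAlgebra.map _ (toBC B Q₀ x)
    induction x using CliffordAlgebra.left_induction with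
    | algebraMap r =>
      rw [AlgHom.commutes, AlgHom.commutes, IsScalarTower.algebraMap_apply R A (CC Q₀ A), AlgHom.commutes, F_algebraMap,
        AlgHom.commutes φ, IsScalarTower.algebraMap_apply R B (CC Q₀ B), AlgHom.commutes]
    | add a b ha hb => simp only [map_add, ha, hb]
    | ι_mul a v ha =>
      simp only [map_mul, ha]
      congr 1
      rw [toBC_ι, toBC_ι, map_apply_ι, map_apply_ι, QuadGrp.isometryOfMem_apply, QuadGrp.isometryOfMem_apply, F_ι]
      have hl : ((LinearMap.rTensor (Fin (2 * m) → R) φ.toLinearMap).comp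
          ((g.toLinearMap.restrictScalars R).comp (TensorProduct.mk R A (Fin (2 * m) → R) 1))) =
          (g'.toLinearMap.restrictScalars R).comp (TensorProduct.mk R B (Fin (2 * m) → R) 1) := by
        refine (Pi.basisFun R (Fin (2 * m))).ext fun j => Odd.ι_injective (R := B) (M := B ⊗[R] (Fin (2 * m) → R)) (Q := QA B Q₀) ?_
        have e1 := Gv_mat Q₀ g j
        have e2 := Gv_mat Q₀ g' j
        rw [Module.Basis.baseChange_apply] at e1 e2
        show ι (QA B Q₀) (LinearMap.rTensor _ φ.toLinearMap (g ((1 : A) ⊗ₜ[R] _))) = ι (QA B Q₀) (g' ((1 : B) ⊗ₜ[R] _))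
        rw [← F_ι, ← e1, ← e2, hgg, F_Gv]
      exact congrArg (ι (QA B Q₀)) (LinearMap.congr_fun hl v)
  rw [dickson, dickson, ← phiA_F, map_mul, map_sub, F_toBC, F_toBC]
  exact congrArg (fun y => phiA Q₀ B ((y - toBC B Q₀ z) * toBC B Q₀ (Ring.inverse (1 - 2 * z))))
    (congrArg (fun f => f z) key)

include hz in
theorem dickson_spec (hm : 1 ≤ m) (g : (A ⊗[R] (Fin (2 * m) → R)) ≃ₗ[A] (A ⊗[R] (Fin (2 * m) → R)))
    (hg : g ∈ QuadGrp.O (QA A Q₀)) :
    IsIdempotentElem (dickson m z g hg) ∧ LinearMap.det g.toLinearMap = 1 - 2 * dickson m z g hg := by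
  have hn := nondeg_even (R := R) m (regular_split m)
  have key : ∀ (J : Ideal A) [J.IsMaximal],
      algebraMap A (Localization.AtPrime J) (dickson m z g hg * dickson m z g hg - dickson m z g hg) = 0 ∧
      algebraMap A (Localization.AtPrime J) (LinearMap.det g.toLinearMap - (1 - 2 * dickson m z g hg)) = 0 := by
    intro J _
    let q := IsScalarTower.toAlgHom R A (Localization.AtPrime J)
    obtain ⟨g', hg', hgg⟩ := exists_g hn (Localization.AtPrime J) ((Rep.mat g).map q)
      (((OrthSmooth.mem_orth_iff Q₀ A g).1 ((mem_O_QA_iff Q₀ g).1 hg)).map _ q)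
    have hD := dickson_natural m z q g hg g' hg' hgg
    have hdet : q (LinearMap.det g.toLinearMap) = LinearMap.det g'.toLinearMap := by
      rw [← LinearMap.det_toMatrix (Rep.bA R (2 * m) A), ← LinearMap.det_toMatrix (Rep.bA R (2 * m) (Localization.AtPrime J))]
      show q (Rep.mat g).det = (Rep.mat g').det
      rw [hgg, AlgHom.map_det, AlgHom.mapMatrix_apply]
    show q _ = 0 ∧ q _ = 0
    simp only [map_sub, map_mul, map_one, map_ofNat, hD, hdet]
    rcases dickson_local m z hz hm g' hg' with ⟨h1, h2⟩ | ⟨h1, h2⟩ <;> simp only [h1, h2] <;> constructor <;> ring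
  exact ⟨sub_eq_zero.1 (eq_zero_of_localization _ fun J hJ => (key J).1),
    sub_eq_zero.1 (eq_zero_of_localization _ fun J hJ => (key J).2)⟩

theorem solEquiv_map {R' : Type u} [CommRing R'] {n : ℕ} {κ : Type*} (E : κ → MvPolynomial (Fin n × Fin n) R')
    {A : Type u} [CommRing A] [Algebra R' A] (f : Rep.coordRing E →ₐ[R'] A) :
    ((Rep.solEquiv E (Rep.coordRing E) (AlgHom.id R' _)).1).map f = (Rep.solEquiv E A f).1 := rfl

/-- The naive special orthogonal group of the split even form is reduced and not flat over `ℤ`. -/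
theorem reduced_not_flat (m : ℕ) (hm : 1 ≤ m)
    (G : Over (Spec (CommRingCat.of ℤ))) [GrpObj G] (D : QuadGrp.SOrth'Rep (QuadGrp.splitForm ℤ (2 * m)) G) :
    AlgebraicGeometry.IsReduced G.left ∧ ¬ AlgebraicGeometry.Flat G.hom := by
  classical
  let Q := QuadGrp.splitForm ℤ (2 * m)
  have hn := nondeg_even (R := ℤ) m (regular_split m)
  obtain ⟨z, hz⟩ := exists_splitting ℤ m
  let S := Rep.coordRing (OrthSmooth.eqSO Q)
  let H : Matrix (Fin (2 * m)) (Fin (2 * m)) S := (Rep.solEquiv (OrthSmooth.eqSO Q) S (AlgHom.id ℤ S)).1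
  have hH := (OrthSmooth.isSol_eqSO Q H).1 (Rep.solEquiv (OrthSmooth.eqSO Q) S (AlgHom.id ℤ S)).2
  obtain ⟨g, hg, hgH⟩ := exists_g hn S H hH.1
  set e := dickson m z g hg
  obtain ⟨hid, hdet⟩ := dickson_spec m z hz hm g hg
  have h2e : (2 : S) * e = 0 := by
    have : LinearMap.det g.toLinearMap = 1 := by
      rw [← LinearMap.det_toMatrix (Rep.bA ℤ (2 * m) S)]
      show (Rep.mat g).det = 1
      rw [hgH, hH.2]
    rw [this] at hdet
    linear_combination hdet
  -- points
  have hpt : ∀ (A : Type) [CommRing A]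
      (g' : (A ⊗[ℤ] (Fin (2 * m) → ℤ)) ≃ₗ[A] (A ⊗[ℤ] (Fin (2 * m) → ℤ))) (hg' : g' ∈ QuadGrp.O (QA A Q))
      (hs : Rep.IsSol (OrthSmooth.eqSO Q) (Rep.mat g')),
      ∃ f : S →ₐ[ℤ] A, f = (Rep.solEquiv (OrthSmooth.eqSO Q) A).symm ⟨_, hs⟩ ∧ f e = dickson m z g' hg' := by
    intro A _ g' hg' hs
    refine ⟨_, rfl, dickson_natural m z _ g hg g' hg' ?_⟩
    rw [hgH]
    exact ((solEquiv_map (OrthSmooth.eqSO Q) _).trans (congrArg Subtype.val
      ((Rep.solEquiv (OrthSmooth.eqSO Q) A).apply_symm_apply ⟨_, hs⟩))).symm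
  have hne : e ≠ 0 := by
    let σ : Equiv.Perm (Fin (2 * m)) := Equiv.swap ⟨0, by omega⟩ ⟨1, by omega⟩
    let g0 : (Fin (2 * m) → ℤ) ≃ₗ[ℤ] (Fin (2 * m) → ℤ) := LinearEquiv.funCongrLeft ℤ ℤ σ
    have hg0 : g0 ∈ QuadGrp.O Q := fun x => by
      show QuadGrp.splitForm ℤ (2 * m) (x ∘ σ) = QuadGrp.splitForm ℤ (2 * m) x
      rw [split_apply, split_apply]
      refine Finset.sum_congr rfl fun i _ => ?_
      simp only [Function.comp_apply, σ]
      obtain ⟨i, hi⟩ := i
      rcases Nat.eq_zero_or_pos i with rfl | h0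
      · simp [mul_comm]
      · rw [Equiv.swap_apply_of_ne_of_ne, Equiv.swap_apply_of_ne_of_ne] <;> simp [Fin.ext_iff] <;> omega
    have hd0 : LinearMap.det g0.toLinearMap = -1 := by
      rw [← LinearMap.det_toMatrix']
      have : LinearMap.toMatrix' g0.toLinearMap = σ.permMatrix ℤ := by
        ext i j
        simp [g0, LinearMap.toMatrix'_apply, Equiv.Perm.permMatrix, PEquiv.toMatrix_apply, Pi.single_apply, eq_comm]
      rw [this, Matrix.det_permutation, Equiv.Perm.sign_swap (by simp [Fin.ext_iff])]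
      simp
    let gZ := g0.baseChange ℤ ℤ (Fin (2 * m) → ℤ) (Fin (2 * m) → ℤ)
    have hgZ := baseChange_mem_O ℤ Q g0 hg0
    obtain ⟨-, hdZ⟩ := dickson_spec m z hz hm gZ hgZ
    have hdgZ : LinearMap.det gZ.toLinearMap = -1 :=
      (LinearMap.det_baseChange (A := ℤ) g0.toLinearMap).trans (by rw [hd0]; simp)
    rw [hdgZ] at hdZ
    have hD1 : dickson m z gZ hgZ = 1 := by linarith
    obtain ⟨g2, hg2, hg2m⟩ := exists_g hn (ZMod 2) ((Rep.mat gZ).map (Algebra.ofId ℤ (ZMod 2)))
      (((OrthSmooth.mem_orth_iff Q ℤ gZ).1 ((mem_O_QA_iff Q gZ).1 hgZ)).map _ (Algebra.ofId ℤ (ZMod 2)))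
    have hD2 := dickson_natural m z (Algebra.ofId ℤ (ZMod 2)) gZ hgZ g2 hg2 hg2m
    rw [hD1, map_one] at hD2
    have hs : Rep.IsSol (OrthSmooth.eqSO Q) (Rep.mat g2) := by
      refine (OrthSmooth.isSol_eqSO Q _).2 ⟨(OrthSmooth.mem_orth_iff Q (ZMod 2) g2).1 ((mem_O_QA_iff Q g2).1 hg2), ?_⟩
      rw [hg2m, ← AlgHom.mapMatrix_apply, ← AlgHom.map_det,
        show (Rep.mat gZ).det = -1 from (LinearMap.det_toMatrix _ _).trans hdgZ, map_neg, map_one]
      decide
    obtain ⟨f, -, hf⟩ := hpt (ZMod 2) g2 hg2 hs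
    intro he
    rw [he, map_zero, ← hD2] at hf
    exact zero_ne_one hf
  -- smoothness of the two parts
  haveI hfs := OrthSmooth.formallySmooth_O Q hn (Or.inl (even_two_mul m))
  haveI := Rep.finitePresentation (OrthSmooth.eqSO Q)
  have lift : ∀ (B : Type) [CommRing B] (I : Ideal B), I ^ 2 = ⊥ → ∀ f : S →ₐ[ℤ] B ⧸ I,
      ∀ c : B, IsIdempotentElem c → f e = Ideal.Quotient.mk I c → (2 : B) * c = 0 →
      ∃ f' : S →ₐ[ℤ] B, f' e = c ∧ (Ideal.Quotient.mk I).comp f'.toRingHom = f.toRingHom := by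
    intro B _ I hI f c hc hfc h2c
    let Hb := (Rep.solEquiv (OrthSmooth.eqSO Q) (B ⧸ I) f)
    obtain ⟨H', hH', hH'map⟩ := Rep.exists_lift (OrthSmooth.eqO Q) (Ideal.Quotient.mkₐ ℤ I)
      (Ideal.Quotient.mkₐ_surjective ℤ I) ⟨2, by
        rw [Submodule.zero_eq_bot, show RingHom.ker (Ideal.Quotient.mkₐ ℤ I) = I from Ideal.mk_ker, hI]⟩
      Hb.1 ((OrthSmooth.isSol_eqSO Q _).1 Hb.2).1
    obtain ⟨g', hg', hg'm⟩ := exists_g hn B H' hH'
    obtain ⟨hid', hdet'⟩ := dickson_spec m z hz hm g' hg'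
    obtain ⟨gb, hgb, hgbm⟩ := exists_g hn (B ⧸ I) Hb.1 ((OrthSmooth.isSol_eqSO Q _).1 Hb.2).1
    have e1 : dickson m z gb hgb = f e := by
      refine (dickson_natural m z f g hg gb hgb ?_).symm
      rw [hgbm, hgH]
      exact (solEquiv_map (OrthSmooth.eqSO Q) f).symm
    have e2 : Ideal.Quotient.mk I (dickson m z g' hg') = Ideal.Quotient.mk I c := by
      rw [← hfc, ← e1]
      exact dickson_natural m z (Ideal.Quotient.mkₐ ℤ I) g' hg' gb hgb (by rw [hgbm, hg'm, hH'map])
    have hDc : dickson m z g' hg' = c := by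
      set D' := dickson m z g' hg'
      have hx : D' - c ∈ I := Ideal.Quotient.eq.1 e2
      have hxx : (D' - c) * (D' - c) = 0 := by
        have := Ideal.mul_mem_mul hx hx
        rwa [← pow_two, hI, Ideal.mem_bot] at this
      linear_combination (2 * c - 1) * hid'.eq - (2 * c - 1) * hxx + (1 - 4 * D' + 2 * c) * hc.eq
    have hs : Rep.IsSol (OrthSmooth.eqSO Q) H' := (OrthSmooth.isSol_eqSO Q _).2 ⟨hH', by
      rw [← hg'm, LinearMap.det_toMatrix, hdet', hDc, h2c, sub_zero]⟩
    obtain ⟨f', hf', hf'e⟩ := hpt B g' hg' (hg'm ▸ hs)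
    refine ⟨f', hf'e.trans hDc, ?_⟩
    have : (Ideal.Quotient.mkₐ ℤ I).comp f' = f := by
      refine (Rep.solEquiv (OrthSmooth.eqSO Q) (B ⧸ I)).injective (Subtype.ext ?_)
      show _ = Hb.1
      rw [← hH'map, ← hg'm, hf']
      ext i j
      simp [Rep.solEquiv, Rep.evM]
    rw [← this]
    rfl
  let S1 := S ⧸ Ideal.span {e}
  let S2 := S ⧸ Ideal.span {1 - e}
  haveI : Algebra.FinitePresentation ℤ S1 := Algebra.FinitePresentation.quotient (Submodule.fg_span (Set.finite_singleton _))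
  haveI : Algebra.FormallySmooth ℤ S1 := by
    rw [Algebra.FormallySmooth.iff_comp_surjective]
    intro B _ instB I hI f
    obtain rfl : instB = Ring.toIntAlgebra B := Subsingleton.elim _ _
    obtain ⟨f', hf'e, hf'⟩ := lift B I hI ((f.toRingHom.comp (Ideal.Quotient.mk _)).toIntAlgHom) 0 IsIdempotentElem.zero
      (by
        show f (Ideal.Quotient.mk _ e) = _
        rw [Ideal.Quotient.eq_zero_iff_mem.2 (Ideal.mem_span_singleton_self e), map_zero, map_zero]) (mul_zero _)
    refine ⟨(Ideal.Quotient.lift _ f'.toRingHom fun a ha => ?_).toIntAlgHom, AlgHom.ext fun x => ?_⟩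
    · obtain ⟨r, rfl⟩ := Ideal.mem_span_singleton'.1 ha
      rw [map_mul, show f'.toRingHom e = 0 from hf'e, mul_zero]
    · obtain ⟨x, rfl⟩ := Ideal.Quotient.mk_surjective x
      exact congrArg (fun k : S →+* B ⧸ I => k x) hf'
  haveI : Algebra.Smooth ℤ S1 := ⟨inferInstance, inferInstance⟩
  have h2S2 : ((2 : ℕ) : S2) = 0 := by
    have h3 : ((2 : ℕ) : S2) = Ideal.Quotient.mk (Ideal.span {1 - e}) ((2 : S) * e) := by
      rw [← map_natCast (Ideal.Quotient.mk (Ideal.span {1 - e})) 2, Ideal.Quotient.eq]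
      exact Ideal.mem_span_singleton'.2 ⟨2, by push_cast; ring⟩
    rw [h3, h2e, map_zero]
  haveI : CharP S2 (ringChar S2) := ringChar.charP S2
  letI : Algebra (ZMod 2) S2 := ZMod.algebra' S2 (ringChar S2) (ringChar.dvd h2S2)
  haveI : Fact (Nat.Prime 2) := ⟨Nat.prime_two⟩
  haveI : Algebra.FiniteType ℤ S2 := Algebra.FiniteType.of_surjective (Ideal.Quotient.mkₐ ℤ (Ideal.span {1 - e})) (Ideal.Quotient.mkₐ_surjective _ _)
  haveI : IsScalarTower ℤ (ZMod 2) S2 := IsScalarTower.of_algebraMap_eq' (RingHom.ext_int _ _)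
  haveI : Algebra.FiniteType (ZMod 2) S2 := Algebra.FiniteType.of_restrictScalars_finiteType ℤ (ZMod 2) S2
  haveI : Algebra.FinitePresentation (ZMod 2) S2 := (Algebra.FinitePresentation.of_finiteType (R := ZMod 2) (A := S2)).1 ‹_›
  haveI : Algebra.FormallySmooth (ZMod 2) S2 := by
    rw [Algebra.FormallySmooth.iff_comp_surjective]
    intro B _ _ I hI f
    have h2B : (2 : B) = 0 := by
      rw [← map_ofNat (algebraMap (ZMod 2) B) 2, show (2 : ZMod 2) = 0 from rfl, map_zero]
    obtain ⟨f', hf'e, hf'⟩ := lift B I hI ((f.toRingHom.comp (Ideal.Quotient.mk _)).toIntAlgHom) 1 IsIdempotentElem.one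
      (by
        show f (Ideal.Quotient.mk _ e) = _
        have h1 : Ideal.Quotient.mk (Ideal.span {1 - e}) e = 1 := by
          rw [← map_one (Ideal.Quotient.mk (Ideal.span {1 - e})), eq_comm, Ideal.Quotient.eq]
          exact Ideal.mem_span_singleton_self _
        rw [h1, map_one, map_one]) (by rw [h2B, zero_mul])
    let F2 : S2 →+* B := Ideal.Quotient.lift _ f'.toRingHom fun a ha => by
      obtain ⟨r, rfl⟩ := Ideal.mem_span_singleton'.1 ha
      rw [map_mul, map_sub, map_one, show f'.toRingHom e = 1 from hf'e, sub_self, mul_zero]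
    refine ⟨{ F2 with commutes' := fun r => congrArg (fun k : ZMod 2 →+* B => k r) (RingHom.ext_zmod (F2.comp (algebraMap (ZMod 2) S2)) (algebraMap (ZMod 2) B)) }, AlgHom.ext fun x => ?_⟩
    obtain ⟨x, rfl⟩ := Ideal.Quotient.mk_surjective x
    exact congrArg (fun k : S →+* B ⧸ I => k x) hf'
  haveI : Algebra.Smooth (ZMod 2) S2 := ⟨inferInstance, inferInstance⟩
  have hS1 : _root_.IsReduced S1 := Groth.Agent.H21.SmoothRed.isReduced ℤ S1
  haveI : _root_.IsReduced (ZMod 2) := isReduced_of_noZeroDivisors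
  have hS2 : _root_.IsReduced S2 := Groth.Agent.H21.SmoothRed.isReduced (ZMod 2) S2
  haveI hS : _root_.IsReduced S := by
    refine ⟨fun x hx => ?_⟩
    obtain ⟨k, hk⟩ := hx
    have h1 := Ideal.Quotient.eq_zero_iff_mem.1 (hS1.eq_zero (Ideal.Quotient.mk (Ideal.span {e}) x)
      ⟨k, by rw [← map_pow, hk, map_zero]⟩)
    have h2 := Ideal.Quotient.eq_zero_iff_mem.1 (hS2.eq_zero (Ideal.Quotient.mk (Ideal.span {1 - e}) x)
      ⟨k, by rw [← map_pow, hk, map_zero]⟩)
    obtain ⟨a, ha⟩ := Ideal.mem_span_singleton'.1 h1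
    obtain ⟨b, hb⟩ := Ideal.mem_span_singleton'.1 h2
    linear_combination (-(a + b)) * hid.eq - (1 - e) * ha - e * hb
  obtain ⟨Φ⟩ := Rep.exists_iso (OrthSmooth.eqSO Q) (fun A _ _ => QuadGrp.sorth' Q A) (OrthSmooth.mem_sorth'_iff Q)
    (fun A _ _ K hK => OrthSmooth.isUnit_det_sol Q hn A K ((OrthSmooth.isSol_eqSO Q K).1 hK).1) D
  have hiso : IsIso Φ.hom.left := inferInstanceAs (IsIso ((Over.forget _).map Φ.hom))
  refine ⟨?_, fun hflat => hne ?_⟩
  · haveI : AlgebraicGeometry.IsReduced (GrassRep.pt ℤ S).left :=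
      inferInstanceAs (AlgebraicGeometry.IsReduced (Spec (CommRingCat.of S)))
    exact isReduced_of_isOpenImmersion Φ.hom.left
  · rw [← Over.w Φ.hom, MorphismProperty.cancel_left_of_respectsIso @Flat] at hflat
    have h3 : (algebraMap ℤ S).Flat :=
      (HasRingHomProperty.Spec_iff (P := @Flat) (φ := CommRingCat.ofHom (algebraMap ℤ S))).1 hflat
    rw [RingHom.flat_algebraMap_iff] at h3
    haveI := h3
    have h4 : (2 : ℤ) • e = 0 := by rw [zsmul_eq_mul]; exact_mod_cast h2e
    exact (smul_eq_zero.1 h4).resolve_left two_ne_zero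

end Groth.Agent.Lib.QuadGrp99.SplitSO
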